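import Groth.Agent.FlatLoc6.Depth
import Groth.Agent.FlatLoc6.Cpl
import Groth.Agent.CplFib6.Ascend
import Groth.Agent.AvramovLib.Core
import Groth.Agent.S0547
import Groth.Agent.S2865

/-!
# Flat local maps: depth, dimension and descent of parafactoriality
-/

set_option linter.style.haveILetI false

universe u

open IsLocalRing TensorProduct

namespace Groth.Agent.RamSam

open Groth.Agent

/-- Depth formula for flat local maps. -/
theorem depth_flat (A B : Type u) [CommRing A] [CommRing B] [IsLocalRing A] [IsLocalRing B] [IsNoetherianRing A]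
    [IsNoetherianRing B] [Algebra A B] [IsLocalHom (algebraMap A B)] [Module.Flat A B] :
    LocCoh.depth B B = LocCoh.depth A A + LocCoh.depth (EGA4.FibRing A B) (EGA4.FibRing A B) := by
  haveI : Nontrivial (EGA4.FibRing A B) := Ideal.Quotient.nontrivial_iff.mpr
    (ne_top_of_le_ne_top (maximalIdeal.isMaximal B).ne_top (map_maximalIdeal_le (algebraMap A B)))
  haveI : IsLocalRing (EGA4.FibRing A B) :=
    IsLocalRing.of_surjective' (Ideal.Quotient.mk _) Ideal.Quotient.mk_surjective
  have h := FlatLoc6.depth_tensor (A := A) (B := B) (N := B) A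
  let e₁ : B ⊗[A] A ≃ₗ[B] B := AlgebraTensorModule.rid A B B
  rw [Alg6.depth_eq_of_semilinear (RingHom.id B) Function.surjective_id e₁.toAddEquiv fun r x => e₁.map_smul r x] at h
  rw [h]
  congr 1
  let e₂ : EGA4.FibMod A B B ≃ₗ[B] EGA4.FibRing A B :=
    Submodule.quotEquivOfEq _ _ (by rw [smul_eq_mul, Ideal.mul_top])
  refine Alg6.depth_eq_of_semilinear (RingHom.id _) Function.surjective_id e₂.toAddEquiv fun r x => ?_
  obtain ⟨r, rfl⟩ := Ideal.Quotient.mk_surjective r
  obtain ⟨x, rfl⟩ := Submodule.Quotient.mk_surjective _ x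
  rfl

/-- The depth of a zero-dimensional local ring vanishes. -/
theorem depth_eq_zero_of_dim_zero (R : Type u) [CommRing R] [IsLocalRing R] [IsNoetherianRing R]
    (h : ringKrullDim R = 0) : LocCoh.depth R R = 0 := by
  have h1 := LC.depth_le_supportDim (R := R) (M := R)
  rw [Module.supportDim_self_eq_ringKrullDim, h] at h1
  exact le_antisymm (by exact_mod_cast h1) zero_le'

/-- Depth and dimension are unchanged along flat local maps with zero-dimensional fibre. -/
theorem depth_dim_of_fibre_zero (A B : Type u) [CommRing A] [CommRing B] [IsLocalRing A] [IsLocalRing B]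
    [IsNoetherianRing A] [IsNoetherianRing B] [Algebra A B] [IsLocalHom (algebraMap A B)] [Module.Flat A B]
    (h : ringKrullDim (B ⧸ (maximalIdeal A).map (algebraMap A B)) = 0) :
    LocCoh.depth B B = LocCoh.depth A A ∧ ringKrullDim B = ringKrullDim A := by
  haveI : Nontrivial (EGA4.FibRing A B) := Ideal.Quotient.nontrivial_iff.mpr
    (ne_top_of_le_ne_top (maximalIdeal.isMaximal B).ne_top (map_maximalIdeal_le (algebraMap A B)))
  haveI : IsLocalRing (EGA4.FibRing A B) :=
    IsLocalRing.of_surjective' (Ideal.Quotient.mk _) Ideal.Quotient.mk_surjective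
  refine ⟨?_, ?_⟩
  · rw [depth_flat A B, depth_eq_zero_of_dim_zero (EGA4.FibRing A B) h, add_zero]
  · rw [AvramovLib.dim_eq_add (A := A) (B := B), h, add_zero]

/-- The closed fibre of the completion is zero-dimensional. -/
theorem dim_fibre_cpl (B : Type u) [CommRing B] [IsLocalRing B] [IsNoetherianRing B] :
    ringKrullDim (EGA4.Cpl B ⧸ (maximalIdeal B).map (algebraMap B (EGA4.Cpl B))) = 0 := by
  haveI := FlatLoc6.isLocalRing_cpl B
  rw [← AdicCompletion.maximalIdeal_eq_map_of_fg (IsNoetherian.noetherian _)]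
  letI : Field (EGA4.Cpl B ⧸ maximalIdeal (EGA4.Cpl B)) := Ideal.Quotient.field _
  exact ringKrullDim_eq_zero_of_field _

/-- The canonical map to the completion is local. -/
theorem isLocalHom_cpl (B : Type u) [CommRing B] [IsLocalRing B] [IsNoetherianRing B]
    [IsLocalRing (EGA4.Cpl B)] : IsLocalHom (algebraMap B (EGA4.Cpl B)) :=
  ((local_hom_TFAE _).out 0 2).mpr (AdicCompletion.maximalIdeal_eq_map_of_fg (IsNoetherian.noetherian _)).ge

/-- Parafactoriality descends from the completion. -/
theorem isParafactorial_of_cpl (B : Type u) [CommRing B] [IsLocalRing B] [IsNoetherianRing B]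
    [IsLocalRing (EGA4.Cpl B)] (h : ParaF.IsParafactorialLocalRing (EGA4.Cpl B)) :
    ParaF.IsParafactorialLocalRing B := by
  haveI := FlatLoc6.isNoetherianRing_cpl B
  haveI := FlatLoc6.faithfullyFlat_cpl B
  haveI := isLocalHom_cpl B
  exact S2865.result B (EGA4.Cpl B) (dim_fibre_cpl B) h

end Groth.Agent.RamSam
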