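import Groth.Agent.RamSam.Descend
import Groth.Agent.LC.GorHull
import Groth.Agent.LC.GorRows
import Groth.Agent.LC.DepthLoc
import Groth.Agent.PSLib.Regular
import Groth.Agent.FlatLoc6.FiberRing

/-!
# Part of a regular system of parameters
-/

set_option linter.style.haveILetI false

universe u

open IsLocalRing

namespace Groth.Agent.RamSam

open Groth.Agent

/-- A regular local ring is Cohen–Macaulay. -/
theorem depth_eq_dim (R : Type u) [CommRing R] [IsRegularLocalRing R] :
    ((LocCoh.depth R R : ℕ∞) : WithBot ℕ∞) = ringKrullDim R := by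
  haveI := LC.gorenstein_of_isRegularLocalRing (R := R)
  haveI : LocCoh.IsCohenMacaulayLocalRing R := LC.isCohenMacaulayLocalRing_of_gorenstein
  rw [← Module.supportDim_self_eq_ringKrullDim (R := R)]
  exact LocCoh.IsCohenMacaulayLocalRing.supportDim_eq_depth.symm

set_option maxHeartbeats 800000 in
/-- Elements going to a regular system of parameters under a local map of regular local rings cut down the dimension
at every prime containing them. -/
theorem natCast_le_dim_localization {R T : Type u} [CommRing R] [IsRegularLocalRing R] [CommRing T]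
    [IsRegularLocalRing T] (φ : R →+* T) [IsLocalHom φ] (r : ℕ) (y : Fin r → R)
    (hy : Ideal.span (Set.range fun i => φ (y i)) = maximalIdeal T) (hdim : ringKrullDim T = r)
    (q : Ideal R) [q.IsPrime] (hq : ∀ i, y i ∈ q) :
    (r : WithBot ℕ∞) ≤ ringKrullDim (Localization.AtPrime q) := by
  classical
  have hym : ∀ i, y i ∈ maximalIdeal R := fun i => le_maximalIdeal (Ideal.IsPrime.ne_top inferInstance) (hq i)
  have hTy : ∀ i, φ (y i) ∈ maximalIdeal T := fun i => map_nonunit φ _ (hym i)
  -- independence in the target
  have hrankT : Module.finrank (ResidueField T) (CotangentSpace T) = r := by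
    have h1 := (IsRegularLocalRing.iff_finrank_cotangentSpace T).mp inferInstance
    rw [hdim] at h1
    exact_mod_cast h1
  let vT : Fin r → CotangentSpace T := fun i => (maximalIdeal T).toCotangent ⟨φ (y i), hTy i⟩
  have hspanT : ⊤ ≤ Submodule.span (ResidueField T) (Set.range vT) := by
    intro x _
    obtain ⟨⟨x, hx⟩, rfl⟩ := Ideal.toCotangent_surjective (maximalIdeal T) x
    obtain ⟨c, hc⟩ := Submodule.mem_span_range_iff_exists_fun T |>.mp (hy.symm ▸ hx)
    have : (⟨x, hx⟩ : maximalIdeal T) = ∑ i, c i • (⟨φ (y i), hTy i⟩ : maximalIdeal T) := by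
      apply Subtype.ext
      simp [← hc, Submodule.coe_sum]
    rw [this, map_sum]
    refine Submodule.sum_mem _ fun i _ => ?_
    rw [map_smul]
    exact Submodule.smul_mem _ (residue T (c i)) (Submodule.subset_span (Set.mem_range_self i))
  have hliT : LinearIndependent (ResidueField T) vT :=
    linearIndependent_of_top_le_span_of_card_eq_finrank hspanT (by rw [Fintype.card_fin]; exact hrankT.symm)
  -- independence in the source
  let v : Fin r → CotangentSpace R := fun i => (maximalIdeal R).toCotangent ⟨y i, hym i⟩
  have hli : LinearIndependent (ResidueField R) v := by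
    rw [Fintype.linearIndependent_iff]
    intro g hg i
    choose c hc using fun i => residue_surjective (g i)
    have h1 : (maximalIdeal R).toCotangent (∑ i, c i • (⟨y i, hym i⟩ : maximalIdeal R)) = 0 := by
      rw [map_sum, ← hg]
      exact Finset.sum_congr rfl fun i _ => by rw [map_smul, ← hc i]; rfl
    rw [Ideal.toCotangent_eq_zero] at h1
    have h2 : (∑ i, φ (c i) • (⟨φ (y i), hTy i⟩ : maximalIdeal T) : maximalIdeal T).1 ∈ maximalIdeal T ^ 2 := by
      have h3 := Ideal.mem_map_of_mem φ h1
      rw [Ideal.map_pow] at h3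
      have h4 := Ideal.pow_right_mono (map_maximalIdeal_le φ) 2 h3
      simpa [Submodule.coe_sum] using h4
    rw [← Ideal.toCotangent_eq_zero, map_sum] at h2
    have h5 : ∑ i, residue T (φ (c i)) • vT i = 0 := by
      rw [← h2]
      exact Finset.sum_congr rfl fun i _ => by rw [map_smul]; rfl
    have h6 := Fintype.linearIndependent_iff.mp hliT _ h5 i
    rw [← hc i]
    rw [residue_eq_zero_iff] at h6 ⊢
    exact (map_mem_nonunits_iff φ _).1 h6
  obtain ⟨n, hn⟩ : ∃ n : ℕ, ringKrullDim R = n := AvramovLib.exists_nat_dim R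
  have hrankR : Module.finrank (ResidueField R) (CotangentSpace R) = n := by
    have h1 := (IsRegularLocalRing.iff_finrank_cotangentSpace R).mp inferInstance
    rw [hn] at h1
    exact_mod_cast h1
  let W := Submodule.span (ResidueField R) (Set.range v)
  have hW : Module.finrank (ResidueField R) W = r := by
    rw [finrank_span_eq_card hli, Fintype.card_fin]
  obtain ⟨C, hWC⟩ := Submodule.exists_isCompl W
  let s := Module.finrank (ResidueField R) C
  have hrs : r + s = n := by rw [← hW, Submodule.finrank_add_eq_of_isCompl hWC, hrankR]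
  let bC := Module.finBasis (ResidueField R) C
  choose z hz using fun j => Ideal.toCotangent_surjective (maximalIdeal R) (bC j : CotangentSpace R)
  let b : Fin (r + s) → R := Fin.append y fun j => (z j).1
  have hb : ∀ i, b i ∈ maximalIdeal R := by
    intro i
    induction i using Fin.addCases with
    | left i => rw [show b (Fin.castAdd s i) = y i from Fin.append_left _ _ i]; exact hym i
    | right i => rw [show b (Fin.natAdd r i) = (z i).1 from Fin.append_right _ _ i]; exact (z i).2
  have hsp : Submodule.span (ResidueField R)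
      (Set.range fun i => (maximalIdeal R).toCotangent ⟨b i, hb i⟩) = ⊤ := by
    refine eq_top_iff.mpr (hWC.sup_eq_top ▸ sup_le ?_ ?_)
    · rw [Submodule.span_le]
      rintro _ ⟨i, rfl⟩
      refine Submodule.subset_span ⟨Fin.castAdd s i, ?_⟩
      exact congrArg _ (Subtype.ext (show b (Fin.castAdd s i) = y i from Fin.append_left _ _ i))
    · intro x hx
      obtain ⟨cx, hcx⟩ := Submodule.mem_span_range_iff_exists_fun (ResidueField R) |>.mp
        (bC.span_eq.symm ▸ Submodule.mem_top : (⟨x, hx⟩ : C) ∈ Submodule.span (ResidueField R) (Set.range bC))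
      have : x = ∑ j, cx j • (bC j : CotangentSpace R) := by
        have := congrArg Subtype.val hcx
        simpa [Submodule.coe_sum] using this.symm
      rw [this]
      refine Submodule.sum_mem _ fun j _ => Submodule.smul_mem _ _ (Submodule.subset_span ⟨Fin.natAdd r j, ?_⟩)
      rw [← hz j]
      exact congrArg _ (Subtype.ext (show b (Fin.natAdd r j) = (z j).1 from Fin.append_right _ _ j))
  have hmax : maximalIdeal R ≤ Ideal.span (Set.range b) := by
    refine Submodule.le_of_le_smul_of_le_jacobson_bot (IsNoetherian.noetherian _) (maximalIdeal_le_jacobson _) ?_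
    rw [smul_eq_mul, ← sq]
    exact PSLib.le_span_sup_sq hb hsp
  -- the quotient by the elements
  let J : Ideal R := Ideal.span (Set.range y)
  have hJq : J ≤ q := by
    rw [Ideal.span_le]
    rintro _ ⟨i, rfl⟩
    exact hq i
  haveI : Nontrivial (R ⧸ J) := Ideal.Quotient.nontrivial_iff.mpr
    (ne_top_of_le_ne_top (Ideal.IsPrime.ne_top inferInstance) hJq)
  haveI : IsLocalRing (R ⧸ J) := IsLocalRing.of_surjective' (Ideal.Quotient.mk J) Ideal.Quotient.mk_surjective
  have hspan : maximalIdeal (R ⧸ J) ≤ Ideal.span (Set.range fun j => Ideal.Quotient.mk J (z j).1) := by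
    rw [← IsLocalRing.map_maximalIdeal_of_surjective (Ideal.Quotient.mk J) Ideal.Quotient.mk_surjective]
    refine (Ideal.map_mono hmax).trans ?_
    rw [Ideal.map_span, Ideal.span_le]
    rintro _ ⟨_, ⟨i, rfl⟩, rfl⟩
    induction i using Fin.addCases with
    | left i =>
      rw [show b (Fin.castAdd s i) = y i from Fin.append_left _ _ i, SetLike.mem_coe,
        Ideal.Quotient.eq_zero_iff_mem.mpr (Ideal.subset_span (Set.mem_range_self i) : y i ∈ J)]
      exact zero_mem _
    | right i => exact Ideal.subset_span ⟨i, by rw [show b (Fin.natAdd r i) = (z i).1 from Fin.append_right _ _ i]⟩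
  have hdimJ : ringKrullDim (R ⧸ J) ≤ s := by
    refine (ringKrullDim_le_spanFinrank_maximalIdeal _).trans ?_
    have heq : maximalIdeal (R ⧸ J) = Ideal.span (Set.range fun j => Ideal.Quotient.mk J (z j).1) := by
      refine le_antisymm hspan (Ideal.span_le.mpr ?_)
      rintro _ ⟨j, rfl⟩
      haveI : IsLocalHom (Ideal.Quotient.mk J) := IsLocalHom.of_surjective _ Ideal.Quotient.mk_surjective
      exact map_nonunit _ _ (z j).2
    have h1 : (maximalIdeal (R ⧸ J)).spanFinrank ≤ s := by
      rw [heq]
      refine (Submodule.spanFinrank_span_le_ncard_of_finite (Set.finite_range _)).trans ?_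
      rw [← Set.image_univ]
      refine (Set.ncard_image_le Set.finite_univ).trans ?_
      simp [s]
    exact_mod_cast h1
  -- Cohen–Macaulay
  have hCM : LocCoh.IsCohenMacaulayModule R R := by
    show Module.supportDim R R = _
    rw [Module.supportDim_self_eq_ringKrullDim, depth_eq_dim]
  have h1 := LC.supportDim_eq_add_idealDepth R hCM (I := q) (Ideal.IsPrime.ne_top inferInstance)
  have hsd : Module.supportDim R (R ⧸ (q • (⊤ : Submodule R R))) = ringKrullDim (R ⧸ q) := by
    rw [Module.supportDim_eq_of_equiv (Submodule.quotEquivOfEq _ _ (by rw [smul_eq_mul, Ideal.mul_top])),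
      Module.supportDim_quotient_eq_ringKrullDim]
  rw [Module.supportDim_self_eq_ringKrullDim, hsd, hn] at h1
  have hqJ : ringKrullDim (R ⧸ q) ≤ s :=
    (ringKrullDim_le_of_surjective (Ideal.Quotient.factor hJq) (Ideal.Quotient.factor_surjective hJq)).trans hdimJ
  have h2 : (r : ℕ∞) ≤ LocCoh.idealDepth q R := by
    have h3 : (n : WithBot ℕ∞) ≤ (s : WithBot ℕ∞) + ((LocCoh.idealDepth q R : ℕ∞) : WithBot ℕ∞) :=
      h1.le.trans (add_le_add hqJ le_rfl)
    rw [← hrs] at h3
    rcases eq_or_ne (LocCoh.idealDepth q R) ⊤ with hd | hd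
    · rw [hd]; exact le_top
    · obtain ⟨d, hd⟩ := ENat.ne_top_iff_exists.mp hd
      rw [← hd] at h3 ⊢
      have h4 : ((r + s : ℕ) : ℕ∞) ≤ (s : ℕ∞) + (d : ℕ∞) := by exact_mod_cast h3
      have h5 : r + s ≤ s + d := by exact_mod_cast h4
      exact_mod_cast (by omega : r ≤ d)
  have h6 := h2.trans (LC.idealDepth_le_depth_localized q R q le_rfl)
  rw [FlatLoc6.depth_congr' (LC.selfLoc q.primeCompl)] at h6
  haveI : IsNoetherianRing (Localization.AtPrime q) := IsLocalization.isNoetherianRing q.primeCompl _ inferInstance
  refine le_trans (WithBot.coe_le_coe.mpr h6) ?_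
  rw [← Module.supportDim_self_eq_ringKrullDim]
  exact LC.depth_le_supportDim (Localization.AtPrime q)

end Groth.Agent.RamSam
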