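import Groth.Agent.RamSam.PicTriv
import Groth.Agent.ParaFX.PairIff

/-!
# Functionals from parafactorial pairs
-/

set_option autoImplicit false
set_option linter.style.haveILetI false
set_option linter.unusedSectionVars false
set_option backward.isDefEq.respectTransparency false
set_option backward.isDefEq.respectTransparency.types false

universe u

open CategoryTheory CategoryTheory.Limits AlgebraicGeometry TopologicalSpace Opposite

namespace Groth.Agent.RamSam

open Groth.Agent.ParaFX Groth.Agent.ParaFX.StalkIso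

noncomputable section

/-- Locally invertible on an open means invertible there. -/
theorem isInvertible_restrict_of_local {X : Scheme.{u}} (E : X.Modules) (U : X.Opens)
    (h : ∀ q ∈ U, ∃ W : X.Opens, q ∈ W ∧ W ≤ U ∧ PicF.IsInvertible (E.restrict W.ι)) :
    PicF.IsInvertible (E.restrict U.ι) := by
  refine isInvertible_of_cover (fun i : U => U.ι ⁻¹ᵁ (h i.1 i.2).choose)
    (fun x => ⟨x, (h x.1 x.2).choose_spec.1⟩) fun i => ?_
  obtain ⟨-, -, hW⟩ := (h i.1 i.2).choose_spec
  let b := IsOpenImmersion.lift (h i.1 i.2).choose.ι ((U.ι ⁻¹ᵁ (h i.1 i.2).choose).ι ≫ U.ι) (by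
    rintro _ ⟨w, rfl⟩
    rw [Scheme.Opens.range_ι]
    exact w.2)
  have hb : b ≫ (h i.1 i.2).choose.ι = (U.ι ⁻¹ᵁ (h i.1 i.2).choose).ι ≫ U.ι := IsOpenImmersion.lift_fac _ _ _
  haveI : IsOpenImmersion (b ≫ (h i.1 i.2).choose.ι) := by rw [hb]; infer_instance
  haveI : IsOpenImmersion b := IsOpenImmersion.of_comp b (h i.1 i.2).choose.ι
  exact isInvertible_of_iso (restrictTwice E b (h i.1 i.2).choose.ι ≪≫
    (Scheme.Modules.restrictFunctorCongr hb).app E ≪≫ (restrictTwice E _ _).symm) (isInvertible_restrict b hW)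

/-- A generator of the stalk from rank one sections. -/
theorem stalk_gen_of_rankOne (R : CommRingCat.{u}) (E : (Spec R : Scheme.{u}).Modules) (hEq : Coh.IsQCoh E)
    (q : (Spec R : Scheme.{u})) (t : Γ(E, ⊤)) (hspan : ∀ x : Γ(E, ⊤), ∃ r ∉ q.asIdeal, ∃ b : R, r • x = b • t)
    (hann : ∀ b : R, b • t = 0 → ∃ r ∉ q.asIdeal, r * b = 0) :
    Function.Bijective fun a : (Spec R : Scheme.{u}).presheaf.stalk q => a • E.presheaf.germ ⊤ q trivial t := by
  let X := Spec R
  letI := QCoh.stalkAlg (X := X) (U := ⊤) (x := q) trivial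
  letI := QCoh.stalkModule E (show q ∈ (⊤ : X.Opens) from trivial)
  haveI := QCoh.isScalarTower_stalk E (show q ∈ (⊤ : X.Opens) from trivial)
  haveI := QCoh.isLocalization_stalk' (isAffineOpen_top X) (show q ∈ (⊤ : X.Opens) from trivial)
  haveI := QCoh.isLocalizedModule_germLin hEq (isAffineOpen_top X) (show q ∈ (⊤ : X.Opens) from trivial)
  let S := ((isAffineOpen_top X).primeIdealOf ⟨q, trivial⟩).asIdeal.primeCompl
  let γ := QCoh.germLin E (show q ∈ (⊤ : X.Opens) from trivial)
  have hunit : ∀ r : R, r ∉ q.asIdeal →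
      IsUnit (algebraMap Γ(X, ⊤) (X.presheaf.stalk q) ((Scheme.ΓSpecIso R).inv r)) := fun r hr =>
    IsLocalization.map_units (X.presheaf.stalk q) (⟨(Scheme.ΓSpecIso R).inv r, (notMem_primeIdealOf_iff R q _).2 (by
      rwa [← CommRingCat.comp_apply, Iso.inv_hom_id, CommRingCat.id_apply])⟩ : S)
  show Function.Bijective fun a : X.presheaf.stalk q => a • γ t
  refine ⟨fun a a' haa => sub_eq_zero.1 ?_, fun z => ?_⟩
  · have h0 : (a - a') • γ t = 0 := by rw [sub_smul]; exact sub_eq_zero.2 haa
    generalize a - a' = d at h0 ⊢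
    obtain ⟨⟨b, c⟩, hbc⟩ := IsLocalization.surj S d
    have h1 : γ (b • t) = γ 0 := by
      rw [map_zero, map_smul, ← IsScalarTower.algebraMap_smul (X.presheaf.stalk q) b, ← hbc, mul_comm, mul_smul, h0,
        smul_zero]
    obtain ⟨e, he⟩ := IsLocalizedModule.exists_of_eq (S := S) h1
    rw [smul_zero, Submonoid.smul_def, ← mul_smul] at he
    have h2 : ((Scheme.ΓSpecIso R).hom ((e : Γ(X, ⊤)) * b)) • t = 0 := (top_smul_eq R E _ t).trans he
    obtain ⟨r, hr, hr0⟩ := hann _ h2
    have h3 : (Scheme.ΓSpecIso R).inv r * ((e : Γ(X, ⊤)) * b) = 0 := by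
      have := congrArg (Scheme.ΓSpecIso R).inv hr0
      rw [map_mul, map_zero, ← CommRingCat.comp_apply (Scheme.ΓSpecIso R).hom, Iso.hom_inv_id,
        CommRingCat.id_apply] at this
      exact this
    have h4 := congrArg (algebraMap Γ(X, ⊤) (X.presheaf.stalk q)) h3
    rw [map_mul, map_mul, map_zero, (hunit r hr).mul_right_eq_zero,
      (IsLocalization.map_units (X.presheaf.stalk q) e).mul_right_eq_zero, ← hbc,
      (IsLocalization.map_units (X.presheaf.stalk q) c).mul_left_eq_zero] at h4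
    exact h4
  · obtain ⟨⟨x, c⟩, hxc⟩ := IsLocalizedModule.surj S γ z
    obtain ⟨r, hr, b, hb⟩ := hspan x
    have hb' : (Scheme.ΓSpecIso R).inv r • x = (Scheme.ΓSpecIso R).inv b • t := by
      rw [← top_smul_eq R E ((Scheme.ΓSpecIso R).inv r) x, ← top_smul_eq R E ((Scheme.ΓSpecIso R).inv b) t,
        ← CommRingCat.comp_apply, ← CommRingCat.comp_apply, Iso.inv_hom_id, CommRingCat.id_apply,
        CommRingCat.id_apply]
      exact hb
    have h1 := congrArg γ hb'
    rw [map_smul, map_smul, ← hxc, Submonoid.smul_def, ← IsScalarTower.algebraMap_smul (X.presheaf.stalk q) (c : Γ(X, ⊤)),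
      ← IsScalarTower.algebraMap_smul (X.presheaf.stalk q) ((Scheme.ΓSpecIso R).inv r),
      ← IsScalarTower.algebraMap_smul (X.presheaf.stalk q) ((Scheme.ΓSpecIso R).inv b) (γ t), smul_smul] at h1
    let u := ((hunit r hr).mul (IsLocalization.map_units (X.presheaf.stalk q) c)).unit
    refine ⟨(u⁻¹ : _ˣ).val * algebraMap Γ(X, ⊤) (X.presheaf.stalk q) ((Scheme.ΓSpecIso R).inv b), ?_⟩
    show _ • γ t = z
    rw [mul_smul, ← h1, smul_smul]
    rw [IsUnit.val_inv_mul, one_smul]

set_option maxHeartbeats 800000 in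
/-- For a parafactorial pair on a local spectrum, modules of rank one off the closed set have everywhere nonzero
functionals there. -/
theorem exists_functional_of_pair (R : Type u) [CommRing R] [IsLocalRing R] [IsNoetherianRing R]
    (Y : Closeds (PrimeSpectrum R)) (hY : ∀ q : PrimeSpectrum R, q ∈ Y →
      ParaF.IsParafactorialLocalRing (Localization.AtPrime q.asIdeal))
    (N : Type u) [AddCommGroup N] [Module R N] [Module.Finite R N]
    (hN : ∀ q : PrimeSpectrum R, q ∉ Y → RankOne N q.asIdeal) :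
    ∃ ψ : N →ₗ[R] R, ∀ q : PrimeSpectrum R, q ∉ Y → ∃ x, ψ x ∉ q.asIdeal := by
  let A := CommRingCat.of R
  let X := Spec A
  haveI : IsNoetherianRing A := inferInstanceAs (IsNoetherianRing R)
  haveI : IsNoetherian X := inferInstance
  let Y' : Closeds X := Y
  have hpair : ParaF.IsParafactorialPair X Y' := (PairIff.isParafactorialPair_iff_stalks Y').2 fun q hq => by
    letI : Algebra R (X.presheaf.stalk q) :=
      inferInstanceAs (Algebra R ((Spec.structureSheaf R).presheaf.stalk q))
    haveI : IsLocalization.AtPrime (X.presheaf.stalk q) (q : PrimeSpectrum R).asIdeal :=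
      inferInstanceAs (IsLocalization.AtPrime ((Spec.structureSheaf R).presheaf.stalk q) (q : PrimeSpectrum R).asIdeal)
    exact PairIff.of_ringEquiv (IsLocalization.algEquiv (q : PrimeSpectrum R).asIdeal.primeCompl (X.presheaf.stalk q)
      (Localization.AtPrime (q : PrimeSpectrum R).asIdeal)).toRingEquiv (hY q hq)
  let U : X.Opens := Y'.compl
  have hgood : Good U.ι := good_of_openImmersion Y' hpair (𝟙 X) U.ι (by rw [Scheme.Opens.opensRange_ι]; rfl)
  let NA : ModuleCat.{u} A := ModuleCat.of R N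
  let E : X.Modules := tilde (R := A) NA
  have hEq : Coh.IsQCoh E := inferInstanceAs ((tilde (R := A) NA).IsQuasicoherent)
  haveI : Module.FinitePresentation R N := Module.finitePresentation_of_finite R N
  have hEc : Coh.IsCoh E :=
    QCoh.isCoh_iff_isFP.2 ((QCoh.isFP_tilde_iff (R := A) NA).2 ‹_›)
  let η₀ : N ≃ₗ[R] (moduleSpecΓFunctor (R := A)).obj E :=
    (tilde.toTildeΓNatIso.app NA).toLinearEquiv
  let sec : N → Γ(E, ⊤) := fun x => η₀ x
  have hsec : ∀ q : X, q ∈ U → ∃ e : N,
      Function.Bijective fun a : X.presheaf.stalk q => a • E.presheaf.germ ⊤ q trivial (sec e) := by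
    intro q hq
    obtain ⟨e, he, hann⟩ := hN q hq
    refine ⟨e, stalk_gen_of_rankOne A E hEq q (sec e) (fun x => ?_) fun b hb => ?_⟩
    · obtain ⟨r, hr, b, hb⟩ := he (η₀.symm x)
      refine ⟨r, hr, b, ?_⟩
      have := congrArg η₀ hb
      rw [map_smul, map_smul, LinearEquiv.apply_symm_apply] at this
      exact this
    · exact hann b (η₀.injective (by rw [map_smul, map_zero]; exact hb))
  have hL : PicF.IsInvertible (E.restrict U.ι) := isInvertible_restrict_of_local E U fun q hq => by
    obtain ⟨e, he⟩ := hsec q hq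
    obtain ⟨φ, hφ⟩ := exists_hom_generating (isAffineOpen_top X) hEq q _ he
    let W₀ : X.Opens := ⟨_, isOpen_bij (StalkPair.isCoh_of_invertible (StalkPair.isInvertible_structureModule X))
      hEc φ⟩
    refine ⟨W₀ ⊓ U, ⟨hφ, hq⟩, inf_le_right, ?_⟩
    haveI : IsIso ((Scheme.Modules.restrictFunctor (W₀ ⊓ U).ι).map φ) := by
      refine (NatIso.isIso_map_iff (Scheme.Modules.restrictFunctorIsoPullback (W₀ ⊓ U).ι) φ).2 ?_
      exact isIso_of_bij _ fun w => (bij_pullback_iff (W₀ ⊓ U).ι φ w).2 w.2.1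
    exact isInvertible_of_iso (asIso ((Scheme.Modules.restrictFunctor (W₀ ⊓ U).ι).map φ))
      (isInvertible_restrict (W₀ ⊓ U).ι (StalkPair.isInvertible_structureModule X))
  let O := Coh.structureModule X
  obtain ⟨t₀⟩ := picTrivial_spec_local R _ (hgood.push _ hL)
  let η : E.restrict U.ι ≅ O.restrict U.ι :=
    (restrictPushforward U.ι _).symm ≪≫ (Scheme.Modules.restrictFunctor U.ι).mapIso t₀
  obtain ⟨φ, hφ⟩ := (map_bijective U.ι (hgood.closed O (StalkPair.isInvertible_structureModule X)) E).2 η.hom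
  have hbij : ∀ q : X, q ∈ U → Function.Bijective ((DerSch.stalkFunctor X q).map φ) := by
    intro q hq
    haveI : IsIso ((Scheme.Modules.restrictFunctor U.ι).map φ) :=
      (congrArg (fun g => IsIso g) hφ).mpr inferInstance
    haveI : IsIso ((Scheme.Modules.pullback U.ι).map φ) :=
      (NatIso.isIso_map_iff (Scheme.Modules.restrictFunctorIsoPullback U.ι) φ).1 inferInstance
    exact (bij_pullback_iff U.ι φ ⟨q, hq⟩).1 (bij_of_isIso _ _)
  let ψ : N →ₗ[R] R :=
    { toFun := fun x => (Scheme.ΓSpecIso A).hom (φ.app ⊤ (sec x) : Γ(X, ⊤))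
      map_add' := fun x y => by
        rw [show sec (x + y) = sec x + sec y from map_add η₀ x y, map_add]
        exact map_add _ _ _
      map_smul' := fun r x => by
        have h1 : sec (r • x) = (Scheme.ΓSpecIso A).inv r • sec x :=
          (map_smul η₀ r x).trans (unit_smul_eq A E r (sec x))
        rw [h1, Scheme.Modules.Hom.app_smul, RingHom.id_apply, smul_eq_mul]
        show (Scheme.ΓSpecIso A).hom ((Scheme.ΓSpecIso A).inv r * (show Γ(X, ⊤) from φ.app ⊤ (sec x))) = _
        rw [map_mul, ← CommRingCat.comp_apply, Iso.inv_hom_id, CommRingCat.id_apply]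
        rfl }
  refine ⟨ψ, fun q₀ hq => ?_⟩
  let q : X := q₀
  obtain ⟨e, he⟩ := hsec q hq
  refine ⟨e, ?_⟩
  let f := ((DerSch.stalkFunctor X q).map φ).hom
  obtain ⟨a, ha⟩ : ∃ a : X.presheaf.stalk q, a • E.presheaf.germ ⊤ q trivial (sec e) =
      (hbij q hq).2.hasRightInverse.choose (RefX.unitStalk q 1) := he.2 _
  let v := X.presheaf.germ ⊤ q trivial (φ.app ⊤ (sec e) : Γ(X, ⊤))
  have hfe : f (E.presheaf.germ ⊤ q trivial (sec e)) = RefX.unitStalk q v := by
    refine (ZClosLib.stalkMap_germ φ (U := ⊤) (x := q) trivial (sec e)).trans ?_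
    rw [show RefX.unitStalk q v = v • RefX.unitStalk q 1 by rw [← map_smul, smul_eq_mul, mul_one]]
    have hone : RefX.unitStalk q 1 = (Coh.structureModule X).presheaf.germ ⊤ q trivial
        ((1 : Γ(X, ⊤)) : Γ(Coh.structureModule X, ⊤)) := one_smul (X.presheaf.stalk q) _
    rw [hone, ← QCoh.germ_smul']
    exact congrArg _ (mul_one (show Γ(X, ⊤) from φ.app ⊤ (sec e))).symm
  have hav : a * v = 1 := by
    refine (RefX.unitStalk q).injective ?_
    have h1 : f (a • E.presheaf.germ ⊤ q trivial (sec e)) = RefX.unitStalk q 1 := by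
      rw [ha]
      exact (hbij q hq).2.hasRightInverse.choose_spec _
    rw [f.map_smul, hfe] at h1
    exact ((RefX.unitStalk q).map_smul a v).trans h1
  have hv : IsUnit v := isUnit_of_mul_isUnit_right (hav ▸ isUnit_one)
  have h2 := (X.mem_basicOpen (U := ⊤) (φ.app ⊤ (sec e) : Γ(X, ⊤)) q trivial).2 hv
  rw [basicOpen_eq_of_affine'] at h2
  exact h2

end

end Groth.Agent.RamSam
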