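import Groth.Agent.RamSam.SmoothPt
import Groth.Agent.RamSam.PairFun
import Groth.Agent.RamSam.RegParam
import Groth.Agent.PopescuLib.Main

/-!
# Regular homomorphisms of local rings and parafactoriality

A rank one module on the punctured spectrum descends to a smooth algebra by Popescu's theorem.
-/

set_option linter.style.haveILetI false

universe u

open IsLocalRing TensorProduct

namespace Groth.Agent.RamSam

open Groth.Agent

/-- Local certificate for a module presented by `w` to be free of rank one where `g` does not vanish. -/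
def IsCert {B : Type u} [CommRing B] {n m : ℕ} (w : Fin m → Fin n → B) (g : B) (e lam b : Fin n → B)
    (c : Fin n → Fin m → B) : Prop :=
  (∀ j, ∑ k, lam k * w j k = 0) ∧ (∑ k, lam k * e k = g) ∧
    ∀ k k', (if k = k' then g else 0) = b k * e k' + ∑ j, c k j * w j k'

theorem IsCert.map {B C : Type u} [CommRing B] [CommRing C] (F : B →+* C) {n m : ℕ} {w : Fin m → Fin n → B} {g : B}
    {e lam b : Fin n → B} {c : Fin n → Fin m → B} (h : IsCert w g e lam b c) :
    IsCert (fun j k => F (w j k)) (F g) (F ∘ e) (F ∘ lam) (F ∘ b) (fun k j => F (c k j)) := by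
  obtain ⟨h1, h2, h3⟩ := h
  refine ⟨fun j => ?_, ?_, fun k k' => ?_⟩
  · simp only [Function.comp_apply, ← map_mul, ← map_sum, h1 j, map_zero]
  · simp only [Function.comp_apply, ← map_mul, ← map_sum, h2]
  · simp only [Function.comp_apply, ← map_mul, ← map_sum, ← map_add, ← h3 k k']
    split <;> simp

theorem IsCert.of_map {B C : Type u} [CommRing B] [CommRing C] (F : B →+* C) (hF : Function.Injective F) {n m : ℕ}
    {w : Fin m → Fin n → B} {g : B} {e lam b : Fin n → B} {c : Fin n → Fin m → B}
    (h : IsCert (fun j k => F (w j k)) (F g) (F ∘ e) (F ∘ lam) (F ∘ b) (fun k j => F (c k j))) :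
    IsCert w g e lam b c := by
  obtain ⟨h1, h2, h3⟩ := h
  refine ⟨fun j => hF ?_, hF ?_, fun k k' => hF ?_⟩
  · simpa [map_sum] using h1 j
  · simpa [map_sum] using h2
  · have := h3 k k'
    split_ifs at this ⊢ <;> simpa [map_sum] using this

/-- Rank one where a certificate does not vanish. -/
theorem IsCert.rankOne {R : Type u} [CommRing R] {n m : ℕ} {w : Fin m → Fin n → R} {g : R}
    {e lam b : Fin n → R} {c : Fin n → Fin m → R} (h : IsCert w g e lam b c) (q : Ideal R) (hg : g ∉ q) :
    RankOne ((Fin n → R) ⧸ Submodule.span R (Set.range w)) q := by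
  obtain ⟨h1, h2, h3⟩ := h
  refine ⟨Submodule.Quotient.mk e, fun x => ?_, fun a ha => ?_⟩
  · obtain ⟨v, rfl⟩ := Submodule.Quotient.mk_surjective _ x
    refine ⟨g, hg, ∑ k, v k * b k, ?_⟩
    rw [← Submodule.Quotient.mk_smul, ← Submodule.Quotient.mk_smul, Submodule.Quotient.eq]
    have : g • v - (∑ k, v k * b k) • e = ∑ j, (∑ k, v k * c k j) • w j := by
      funext k'
      simp only [Pi.sub_apply, Pi.smul_apply, smul_eq_mul, Finset.sum_apply, Finset.sum_mul]
      rw [Finset.sum_comm, ← sub_eq_zero]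
      have e1 : g * v k' = ∑ k, v k * (if k = k' then g else 0) := by simp [mul_comm]
      rw [e1, ← Finset.sum_sub_distrib, ← Finset.sum_sub_distrib]
      refine Finset.sum_eq_zero fun k _ => ?_
      rw [h3 k k', mul_add, Finset.mul_sum]
      rw [Finset.sum_congr rfl (fun j _ => (mul_assoc (v k) (c k j) (w j k')).symm)]
      ring
    rw [this]
    exact Submodule.sum_mem _ fun j _ => Submodule.smul_mem _ _ (Submodule.subset_span ⟨j, rfl⟩)
  · rw [← Submodule.Quotient.mk_smul, Submodule.Quotient.mk_eq_zero] at ha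
    refine ⟨g, hg, ?_⟩
    let Λ : (Fin n → R) →ₗ[R] R := Fintype.linearCombination R lam
    have hΛ : Submodule.span R (Set.range w) ≤ LinearMap.ker Λ := by
      rw [Submodule.span_le]
      rintro _ ⟨j, rfl⟩
      show Λ (w j) = 0
      rw [show Λ (w j) = ∑ k, w j k * lam k from rfl, ← h1 j]
      exact Finset.sum_congr rfl fun k _ => mul_comm _ _
    have h4 : Λ (a • e) = 0 := hΛ ha
    rw [map_smul, smul_eq_mul, show Λ e = ∑ k, e k * lam k from rfl] at h4
    rw [← h2, mul_comm, ← h4]
    exact congrArg _ (Finset.sum_congr rfl fun k _ => mul_comm _ _)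

/-- Certificates exist near every prime where the presented module is free of rank one. -/
theorem exists_cert {B : Type u} [CommRing B] [IsNoetherianRing B] {n m : ℕ} (M : Type u) [AddCommGroup M]
    [Module B M] (π : (Fin n → B) →ₗ[B] M) (hπ : Function.Surjective π) (w : Fin m → Fin n → B)
    (hw : Submodule.span B (Set.range w) = LinearMap.ker π) (P : Ideal B) [P.IsPrime] (h : RankOne M P) :
    ∃ g ∉ P, ∃ e lam b c, IsCert w g e lam b c := by
  classical
  haveI : Module.Finite B M := Module.Finite.of_surjective π hπ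
  obtain ⟨φ, x, hx⟩ := exists_functional_at M P h
  obtain ⟨e, he, -⟩ := h
  obtain ⟨e₀, rfl⟩ := hπ e
  choose t ht b hb using he
  let u : Fin n → (Fin n → B) := fun k => Pi.single k 1
  let T := ∏ k, t (π (u k))
  have hT : T ∉ P := fun h => by
    obtain ⟨k, -, hk⟩ := (Ideal.IsPrime.prod_mem_iff).mp h
    exact ht _ hk
  have hTk : ∀ k, ∃ β, T • π (u k) = β • π e₀ := fun k => by
    obtain ⟨v, hv⟩ := Finset.dvd_prod_of_mem (fun k => t (π (u k))) (Finset.mem_univ k)
    exact ⟨v * b (π (u k)), by rw [show T = _ * v from hv, mul_comm, mul_smul, hb, mul_smul]⟩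
  choose β hβ using hTk
  have hφe : φ (π e₀) ∉ P := fun h => by
    have h1 := congrArg φ (hb x)
    rw [map_smul, map_smul, smul_eq_mul, smul_eq_mul] at h1
    have h2 : t x * φ x ∈ P := h1 ▸ P.mul_mem_left _ h
    exact (Ideal.IsPrime.mem_or_mem inferInstance h2).elim (ht x) hx
  have hk : ∀ k, ∃ c : Fin m → B, ∑ j, c j • w j = (T * φ (π e₀)) • u k - (φ (π e₀) * β k) • e₀ := fun k => by
    refine (Submodule.mem_span_range_iff_exists_fun B).mp ?_
    rw [hw, LinearMap.mem_ker, map_sub, map_smul, map_smul, mul_comm, mul_smul, hβ, mul_smul, sub_self]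
  choose c hc using hk
  refine ⟨T * φ (π e₀), fun h => (Ideal.IsPrime.mem_or_mem inferInstance h).elim hT hφe, e₀,
    fun k => T * φ (π (u k)), fun k => φ (π e₀) * β k, c, fun j => ?_, ?_, fun k k' => ?_⟩
  · have h0 : φ (π (w j)) = 0 := by
      rw [show π (w j) = 0 from LinearMap.mem_ker.mp (hw ▸ Submodule.subset_span ⟨j, rfl⟩), map_zero]
    conv_lhs at h0 => rw [pi_eq_sum_univ' (w j)]
    simp only [map_sum, map_smul, smul_eq_mul] at h0
    rw [← mul_zero T, ← h0, Finset.mul_sum]
    exact Finset.sum_congr rfl fun k _ => by simp only [u]; ring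
  · conv_rhs => rw [pi_eq_sum_univ' e₀]
    simp only [map_sum, map_smul, smul_eq_mul, Finset.mul_sum]
    exact Finset.sum_congr rfl fun k _ => by simp only [u]; ring
  · have := congrFun (hc k) k'
    simp only [Finset.sum_apply, Pi.smul_apply, Pi.sub_apply, smul_eq_mul, u, Pi.single_apply] at this
    rw [this]
    split_ifs <;> first | ring1 | (subst_vars; simp_all)

set_option maxHeartbeats 1600000 in
/-- A local ring, regular over a local ring with positive fibre dimension and of depth at least three, is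
parafactorial. -/
theorem isParafactorial_of_regularHom (A B : Type u) [CommRing A] [CommRing B] [IsLocalRing A] [IsLocalRing B]
    [IsNoetherianRing A] [IsNoetherianRing B] [Algebra A B] [IsLocalHom (algebraMap A B)]
    (hreg : CAlg.IsRegularHom A B) (hdim : (1 : WithBot ℕ∞) ≤ ringKrullDim (EGA4.FibRing A B))
    (hd : (3 : ℕ∞) ≤ LocCoh.depth B B) : ParaF.IsParafactorialLocalRing B := by
  classical
  haveI := hreg.1
  let B₀ := EGA4.FibRing A B
  haveI : IsLocalRing B₀ := isLocalRing_fibre A B
  haveI : IsRegularLocalRing B₀ := by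
    haveI := FlatLoc6.isRegularRing_of_geometricallyRegular (hreg.2 (maximalIdeal A)).2
    obtain ⟨e⟩ := RegFS6.closedFibre_equiv_quot A B
    haveI : IsRegularRing B₀ := IsRegularRing.of_ringEquiv e
    exact IsRegularLocalRing.of_isRegularRing_of_isLocalRing B₀
  obtain ⟨r, hr⟩ := AvramovLib.exists_nat_dim B₀
  have hr1 : 1 ≤ r := by rw [hr] at hdim; exact_mod_cast hdim
  have hdepth : (3 : ℕ∞) ≤ LocCoh.depth A A + r := by
    rw [depth_flat A B] at hd
    have h1 := depth_eq_dim B₀
    rw [hr] at h1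
    have h2 : LocCoh.depth B₀ B₀ = (r : ℕ∞) := by exact_mod_cast h1
    rwa [h2] at hd
  refine (ParaFX.isParafactorialLocalRing_iff B).2
    ⟨ParaFX.punctured_bijective B (le_trans (by decide) hd), picTrivial_punctured B fun M _ _ _ hM => ?_⟩
  obtain ⟨y, hym, hygen⟩ := exists_fibre_gens A B hreg r hr
  obtain ⟨l, a, ha⟩ := Submodule.fg_iff_exists_fin_generating_family.mp (IsNoetherian.noetherian (maximalIdeal A))
  let f : Fin r ⊕ Fin l → B := Sum.elim y fun i => algebraMap A B (a i)
  have hf : ∀ i, f i ∈ maximalIdeal B := by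
    rintro (i | i)
    · exact hym i
    · exact map_nonunit _ _ (ha ▸ Submodule.subset_span ⟨i, rfl⟩)
  have hfspan : maximalIdeal B ≤ Ideal.span (Set.range f) := by
    refine hygen.trans (sup_le ?_ (Ideal.span_mono ?_))
    · rw [← ha, Ideal.map_span, Ideal.span_le]
      rintro _ ⟨_, ⟨i, rfl⟩, rfl⟩
      exact Ideal.subset_span ⟨.inr i, rfl⟩
    · rintro _ ⟨i, rfl⟩
      exact ⟨.inl i, rfl⟩
  -- presentation and certificates
  obtain ⟨n, π, hπ⟩ := Module.Finite.exists_fin' B M
  obtain ⟨m, w, hw⟩ := Submodule.fg_iff_exists_fin_generating_family.mp (IsNoetherian.noetherian (LinearMap.ker π))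
  let G : Set B := {g | ∃ e lam b c, IsCert w g e lam b c}
  have hrad : ∀ i, ∃ N : ℕ, f i ^ N ∈ Ideal.span G := fun i => by
    have : f i ∈ (Ideal.span G).radical := by
      rw [Ideal.radical_eq_sInf, Submodule.mem_sInf]
      intro P hP
      haveI := hP.2
      by_cases hPm : P = maximalIdeal B
      · exact hPm ▸ hf i
      · obtain ⟨g, hg, hcert⟩ := exists_cert M π hπ w hw P (hM P hP.2 hPm)
        exact absurd (hP.1 (Ideal.subset_span hcert)) hg
    exact this
  choose N hN using hrad
  choose sG hsG hfs using fun i => Submodule.mem_span_finite_of_mem_span (hN i)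
  let s : Finset B := Finset.univ.biUnion sG
  have hs : ∀ g : s, (g : B) ∈ G := fun g => by
    obtain ⟨i, -, hi⟩ := Finset.mem_biUnion.mp g.2
    exact hsG i hi
  choose e lam b c hcert using hs
  have hd' : ∀ i, ∃ d : s → B, ∑ g, d g * (g : B) = f i ^ N i := fun i => by
    have h1 : f i ^ N i ∈ Submodule.span B (Set.range (Subtype.val : s → B)) :=
      Submodule.span_mono (fun x (hx : x ∈ (sG i : Set B)) =>
        (⟨⟨x, Finset.mem_biUnion.mpr ⟨i, Finset.mem_univ i, hx⟩⟩, rfl⟩ : x ∈ Set.range (Subtype.val : s → B))) (hfs i)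
    exact (Submodule.mem_span_range_iff_exists_fun B).mp h1
  choose d hdsum using hd'
  -- the finitely presented subalgebra of the data
  let data : Set B := Set.range (fun p : Fin m × Fin n => w p.1 p.2) ∪
    (Set.range (Subtype.val : s → B) ∪ (Set.range (fun p : s × Fin n => e p.1 p.2) ∪
    (Set.range (fun p : s × Fin n => lam p.1 p.2) ∪ (Set.range (fun p : s × Fin n => b p.1 p.2) ∪
    (Set.range (fun p : s × Fin n × Fin m => c p.1 p.2.1 p.2.2) ∪
    (Set.range (fun p : (Fin r ⊕ Fin l) × s => d p.1 p.2) ∪ Set.range y))))))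
  have hdata : data.Finite := by
    simp only [data]
    exact (Set.finite_range _).union ((Set.finite_range _).union ((Set.finite_range _).union
      ((Set.finite_range _).union ((Set.finite_range _).union ((Set.finite_range _).union
      ((Set.finite_range _).union (Set.finite_range _)))))))
  let Q := Algebra.adjoin A data
  haveI : Algebra.FiniteType A Q := (Subalgebra.fg_iff_finiteType _).1 (Subalgebra.fg_def.2 ⟨data, hdata, rfl⟩)
  haveI : Algebra.FinitePresentation A Q := Algebra.FinitePresentation.of_finiteType.1 inferInstance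
  obtain ⟨S, _, _, hS, gS, hSB, hgh⟩ := PopescuLib.indSmooth_of_isRegularHom hreg Q inferInstance Q.val
  haveI := hS
  let wQ : Fin m → Fin n → Q := fun j k => ⟨w j k, Algebra.subset_adjoin (Or.inl ⟨(j, k), rfl⟩)⟩
  let gQ : s → Q := fun g => ⟨g, Algebra.subset_adjoin (Or.inr (Or.inl ⟨g, rfl⟩))⟩
  let eQ : s → Fin n → Q := fun g k => ⟨e g k, Algebra.subset_adjoin (Or.inr (Or.inr (Or.inl ⟨(g, k), rfl⟩)))⟩
  let lamQ : s → Fin n → Q := fun g k =>
    ⟨lam g k, Algebra.subset_adjoin (Or.inr (Or.inr (Or.inr (Or.inl ⟨(g, k), rfl⟩))))⟩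
  let bQ : s → Fin n → Q := fun g k =>
    ⟨b g k, Algebra.subset_adjoin (Or.inr (Or.inr (Or.inr (Or.inr (Or.inl ⟨(g, k), rfl⟩)))))⟩
  let cQ : s → Fin n → Fin m → Q := fun g k j =>
    ⟨c g k j, Algebra.subset_adjoin (Or.inr (Or.inr (Or.inr (Or.inr (Or.inr (Or.inl ⟨(g, k, j), rfl⟩))))))⟩
  let dQ : (Fin r ⊕ Fin l) → s → Q := fun i g =>
    ⟨d i g, Algebra.subset_adjoin (Or.inr (Or.inr (Or.inr (Or.inr (Or.inr (Or.inr (Or.inl ⟨(i, g), rfl⟩)))))))⟩
  let yQ : Fin r → Q := fun i =>
    ⟨y i, Algebra.subset_adjoin (Or.inr (Or.inr (Or.inr (Or.inr (Or.inr (Or.inr (Or.inr ⟨i, rfl⟩)))))))⟩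
  let fQ : Fin r ⊕ Fin l → Q := Sum.elim yQ fun i => algebraMap A Q (a i)
  have hfQ : ∀ i, Q.val (fQ i) = f i := by
    rintro (i | i)
    · rfl
    · exact Q.val.commutes _
  have hcertQ : ∀ g : s, IsCert wQ (gQ g) (eQ g) (lamQ g) (bQ g) (cQ g) := fun g =>
    IsCert.of_map Q.val.toRingHom Subtype.coe_injective (hcert g)
  have hdQ : ∀ i, ∑ g, dQ i g * gQ g = fQ i ^ N i := fun i => by
    refine Subtype.coe_injective (?_ : Q.val (∑ g, dQ i g * gQ g) = Q.val (fQ i ^ N i))
    rw [map_sum, map_pow, hfQ, ← hdsum]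
    exact Finset.sum_congr rfl fun g _ => map_mul _ _ _
  have hgh' : ∀ x : Q, hSB (gS x) = x := fun x => AlgHom.congr_fun hgh x
  -- the local ring of the smooth algebra
  haveI : Algebra.FiniteType A S := inferInstance
  haveI : IsNoetherianRing S := Algebra.FiniteType.isNoetherianRing A S
  let p : Ideal S := (maximalIdeal B).comap hSB.toRingHom
  haveI : p.IsPrime := Ideal.IsPrime.comap _
  let R := Localization.AtPrime p
  haveI : IsNoetherianRing R := IsLocalization.isNoetherianRing p.primeCompl R inferInstance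
  haveI : IsLocalHom (algebraMap A R) := by
    refine ((local_hom_TFAE _).out 0 2).mpr ?_
    rw [Ideal.map_le_iff_le_comap]
    intro x hx
    rw [Ideal.mem_comap, IsScalarTower.algebraMap_apply A S R, IsLocalization.AtPrime.to_map_mem_maximal_iff R p]
    show hSB (algebraMap A S x) ∈ maximalIdeal B
    rw [hSB.commutes]
    exact map_nonunit _ _ hx
  let φ : R →+* B := IsLocalization.lift (M := p.primeCompl) (g := hSB.toRingHom) fun x => by
    by_contra hx
    exact x.2 ((mem_maximalIdeal _).mpr hx)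
  have hφ : ∀ x : S, φ (algebraMap S R x) = hSB x := fun x => IsLocalization.lift_eq _ x
  haveI : IsLocalHom φ := by
    refine ⟨fun x hx => ?_⟩
    obtain ⟨z, u, rfl⟩ := IsLocalization.exists_mk'_eq p.primeCompl x
    rw [IsLocalization.AtPrime.isUnit_mk'_iff R p]
    intro hz
    have h1 : IsUnit (φ (algebraMap S R z)) := by
      rw [← IsLocalization.mk'_spec R z u, map_mul]
      exact hx.mul ((IsLocalization.map_units R u).map φ)
    rw [hφ] at h1
    exact (mem_maximalIdeal _).mp hz h1
  let toR : Q →+* R := (algebraMap S R).comp gS.toRingHom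
  have htoR : ∀ x : Q, φ (toR x) = x := fun x => by rw [RingHom.comp_apply, hφ]; exact hgh' x
  -- the descended module and the closed set
  let wR : Fin m → Fin n → R := fun j k => toR (wQ j k)
  let fR : Fin r ⊕ Fin l → R := fun i => toR (fQ i)
  have hφf : ∀ i, φ (fR i) = f i := fun i => (htoR _).trans (hfQ i)
  let Y : TopologicalSpace.Closeds (PrimeSpectrum R) :=
    ⟨PrimeSpectrum.zeroLocus (Set.range fR), PrimeSpectrum.isClosed_zeroLocus _⟩
  have hYmem : ∀ q : PrimeSpectrum R, q ∈ Y ↔ ∀ i, fR i ∈ q.asIdeal := fun q => Set.range_subset_iff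
  have hNR : ∀ q : PrimeSpectrum R, q ∉ Y →
      RankOne ((Fin n → R) ⧸ Submodule.span R (Set.range wR)) q.asIdeal := by
    intro q hq
    rw [hYmem] at hq
    push Not at hq
    obtain ⟨i, hi⟩ := hq
    obtain ⟨g, hg⟩ : ∃ g : s, toR (gQ g) ∉ q.asIdeal := by
      by_contra hall
      push Not at hall
      refine hi (q.isPrime.mem_of_pow_mem (N i) ?_)
      rw [show fR i ^ N i = toR (∑ g, dQ i g * gQ g) by rw [hdQ, map_pow], map_sum]
      exact Submodule.sum_mem _ fun g _ => by rw [map_mul]; exact Ideal.mul_mem_left _ _ (hall g)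
    exact ((hcertQ g).map toR).rankOne q.asIdeal hg
  haveI : Module.Flat A S := inferInstance
  haveI : Module.Flat A R := Module.Flat.trans A S R
  have hY : ∀ q : PrimeSpectrum R, q ∈ Y → ParaF.IsParafactorialLocalRing (Localization.AtPrime q.asIdeal) := by
    intro q hq
    rw [hYmem] at hq
    let q' : Ideal S := q.asIdeal.comap (algebraMap S R)
    obtain ⟨e₁, he₁⟩ := exists_loc_loc_equiv p.primeCompl q.asIdeal q' rfl
    have hqA : maximalIdeal A ≤ q.asIdeal.comap (algebraMap A R) := by
      rw [← ha, Submodule.span_le]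
      rintro _ ⟨i, rfl⟩
      have h1 : fR (.inr i) = algebraMap A R (a i) := by
        show algebraMap S R (gS (algebraMap A Q (a i))) = _
        rw [gS.commutes, ← IsScalarTower.algebraMap_apply]
      show algebraMap A R (a i) ∈ q.asIdeal
      exact h1 ▸ hq (.inr i)
    haveI hlies : q.asIdeal.LiesOver (maximalIdeal A) := ⟨(maximalIdeal.isMaximal A).eq_of_le
      (Ideal.IsPrime.ne_top (Ideal.IsPrime.comap _)) hqA⟩
    haveI : IsLocalHom (algebraMap A (Localization.AtPrime q')) := by
      refine ((local_hom_TFAE _).out 0 2).mpr ?_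
      rw [Ideal.map_le_iff_le_comap]
      intro x hx
      rw [Ideal.mem_comap, IsScalarTower.algebraMap_apply A S (Localization.AtPrime q'),
        IsLocalization.AtPrime.to_map_mem_maximal_iff (Localization.AtPrime q') q', Ideal.mem_comap,
        ← IsScalarTower.algebraMap_apply]
      exact hqA hx
    haveI : IsNoetherianRing (Localization.AtPrime q') :=
      IsLocalization.isNoetherianRing q'.primeCompl _ inferInstance
    haveI : Module.Flat A (Localization.AtPrime q') := Module.Flat.trans A S _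
    haveI := isLocalRing_fibre A (Localization.AtPrime q')
    obtain ⟨r', hr'⟩ := AvramovLib.exists_nat_dim (EGA4.FibRing A (Localization.AtPrime q'))
    -- the fibre dimension is at least `r`
    let R₀ := R ⧸ (maximalIdeal A).map (algebraMap A R)
    haveI : IsLocalRing R₀ := isLocalRing_fibre A R
    haveI : IsRegularLocalRing R₀ := by
      have hregR : CAlg.IsRegularHom A R :=
        PopescuLib.isRegularHom_localization_target (B := S) p.primeCompl (CplFib6.isRegularHom_of_smooth A S)
      haveI := FlatLoc6.isRegularRing_of_geometricallyRegular (hregR.2 (maximalIdeal A)).2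
      obtain ⟨e⟩ := RegFS6.closedFibre_equiv_quot A R
      haveI : IsRegularRing R₀ := IsRegularRing.of_ringEquiv e
      exact IsRegularLocalRing.of_isRegularRing_of_isLocalRing R₀
    have hφA : (maximalIdeal A).map (algebraMap A R) ≤ ((maximalIdeal A).map (algebraMap A B)).comap φ := by
      rw [Ideal.map_le_iff_le_comap]
      intro x hx
      rw [Ideal.mem_comap, Ideal.mem_comap, IsScalarTower.algebraMap_apply A S R, hφ, hSB.commutes]
      exact Ideal.mem_map_of_mem _ hx
    let φ₀ : R₀ →+* B₀ := Ideal.quotientMap _ φ hφA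
    haveI : IsLocalHom φ₀ := by
      refine ⟨fun z hz => ?_⟩
      obtain ⟨z, rfl⟩ := Ideal.Quotient.mk_surjective z
      rw [show φ₀ (Ideal.Quotient.mk _ z) = Ideal.Quotient.mk _ (φ z) from Ideal.quotientMap_mk] at hz
      haveI : IsLocalHom (Ideal.Quotient.mk (EGA4.mB A B)) := IsLocalHom.of_surjective _ Ideal.Quotient.mk_surjective
      exact (isUnit_of_map_unit φ z (isUnit_of_map_unit _ _ hz)).map _
    let q₀ : Ideal R₀ := q.asIdeal.map (Ideal.Quotient.mk _)
    have hker : RingHom.ker (Ideal.Quotient.mk ((maximalIdeal A).map (algebraMap A R))) ≤ q.asIdeal := by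
      rw [Ideal.mk_ker, Ideal.map_le_iff_le_comap]
      exact hqA
    haveI : q₀.IsPrime := Ideal.map_isPrime_of_surjective Ideal.Quotient.mk_surjective hker
    have hy₀ : Ideal.span (Set.range fun i => φ₀ (Ideal.Quotient.mk _ (fR (.inl i)))) = maximalIdeal B₀ := by
      haveI : IsLocalHom (Ideal.Quotient.mk (EGA4.mB A B)) := IsLocalHom.of_surjective _ Ideal.Quotient.mk_surjective
      have hval : ∀ i, φ₀ (Ideal.Quotient.mk _ (fR (.inl i))) = Ideal.Quotient.mk (EGA4.mB A B) (y i) := fun i => by
        rw [show φ₀ (Ideal.Quotient.mk _ (fR (.inl i))) = Ideal.Quotient.mk _ (φ (fR (.inl i))) from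
          Ideal.quotientMap_mk, hφf]
        rfl
      simp only [hval]
      refine le_antisymm (Ideal.span_le.mpr ?_) ?_
      · rintro _ ⟨i, rfl⟩
        exact map_nonunit _ _ (hym i)
      · rw [← IsLocalRing.map_maximalIdeal_of_surjective (Ideal.Quotient.mk (EGA4.mB A B)) Ideal.Quotient.mk_surjective]
        refine (Ideal.map_mono hygen).trans ?_
        rw [Ideal.map_sup, Ideal.map_quotient_self, bot_sup_eq, Ideal.map_span, ← Set.range_comp']
    have hle := natCast_le_dim_localization φ₀ r (fun i => Ideal.Quotient.mk _ (fR (.inl i))) hy₀ hr q₀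
      fun i => Ideal.mem_map_of_mem _ (hq (.inl i))
    rw [IsLocalization.AtPrime.ringKrullDim_eq_height q₀ (Localization.AtPrime q₀)] at hle
    have hht := Ideal.height_eq_height_add_of_liesOver_of_hasGoingDown (maximalIdeal A) q.asIdeal
    have hdimq : ringKrullDim (Localization.AtPrime q') = ringKrullDim A + (q₀.height : WithBot ℕ∞) := by
      rw [← ringKrullDim_eq_of_ringEquiv e₁, IsLocalization.AtPrime.ringKrullDim_eq_height q.asIdeal,
        hht, WithBot.coe_add, maximalIdeal_height_eq_ringKrullDim]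
    rw [AvramovLib.dim_eq_add (A := A) (B := Localization.AtPrime q'),
      show ringKrullDim (Localization.AtPrime q' ⧸ (maximalIdeal A).map (algebraMap A (Localization.AtPrime q'))) = _
        from hr'] at hdimq
    obtain ⟨dA, hdA⟩ := AvramovLib.exists_nat_dim A
    rw [hdA] at hdimq
    have hrr' : r ≤ r' := by
      rcases eq_or_ne q₀.height ⊤ with htop | hne
      · exact absurd htop (Ideal.height_ne_top (Ideal.IsPrime.ne_top inferInstance))
      · obtain ⟨t, ht⟩ := ENat.ne_top_iff_exists.mp hne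
        rw [← ht] at hdimq hle
        have h1 : dA + r' = dA + t := by exact_mod_cast hdimq
        have h2 : r ≤ t := by exact_mod_cast hle
        omega
    exact ParaFX.PairIff.of_ringEquiv e₁ (isParafactorial_smooth A S q' r' hr' (hr1.trans hrr')
      (hdepth.trans (add_le_add le_rfl (Nat.cast_le.mpr hrr'))))
  obtain ⟨ψ, hψ⟩ := exists_functional_of_pair R Y hY ((Fin n → R) ⧸ Submodule.span R (Set.range wR)) hNR
  -- back to `B`
  let cψ : Fin n → B := fun k => φ (ψ (Submodule.Quotient.mk (Pi.single k 1)))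
  let Λ : (Fin n → B) →ₗ[B] B := Fintype.linearCombination B cψ
  have hΛ : ∀ v : Fin n → R, Λ (φ ∘ v) = φ (ψ (Submodule.Quotient.mk v)) := fun v => by
    show ∑ k, φ (v k) * φ (ψ (Submodule.Quotient.mk (Pi.single k 1))) = _
    conv_rhs => rw [pi_eq_sum_univ' v]
    rw [← Submodule.mkQ_apply, map_sum, map_sum, map_sum]
    refine Finset.sum_congr rfl fun k _ => ?_
    rw [map_smul, map_smul, smul_eq_mul, map_mul]
    rfl
  have hΛw : LinearMap.ker π ≤ LinearMap.ker Λ := by
    rw [← hw, Submodule.span_le]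
    rintro _ ⟨j, rfl⟩
    show Λ (w j) = 0
    rw [show w j = φ ∘ wR j from funext fun k => (htoR (wQ j k)).symm, hΛ,
      (Submodule.Quotient.mk_eq_zero _).2 (Submodule.subset_span (Set.mem_range_self j)), map_zero, map_zero]
  let ψB : M →ₗ[B] B := ((LinearMap.ker π).liftQ Λ hΛw).comp (LinearMap.quotKerEquivOfSurjective π hπ).symm.toLinearMap
  have hψB : ∀ v, ψB (π v) = Λ v := fun v => by
    show (LinearMap.ker π).liftQ Λ hΛw ((LinearMap.quotKerEquivOfSurjective π hπ).symm (π v)) = _
    rw [show (LinearMap.quotKerEquivOfSurjective π hπ).symm (π v) = Submodule.Quotient.mk v from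
      (LinearEquiv.symm_apply_eq _).mpr rfl]
    rfl
  refine ⟨ψB, fun P hP hPm => ?_⟩
  haveI := hP
  let q : PrimeSpectrum R := ⟨P.comap φ, inferInstance⟩
  have hq : q ∉ Y := by
    rw [hYmem]
    intro hall
    refine hPm (le_antisymm (le_maximalIdeal hP.ne_top) (hfspan.trans (Ideal.span_le.mpr ?_)))
    rintro _ ⟨i, rfl⟩
    rw [SetLike.mem_coe, ← hφf i]
    exact hall i
  obtain ⟨x, hx⟩ := hψ q hq
  obtain ⟨v, rfl⟩ := Submodule.Quotient.mk_surjective _ x
  refine ⟨π (φ ∘ v), ?_⟩
  rw [hψB, hΛ]
  exact hx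

end Groth.Agent.RamSam
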