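import Groth.Agent.RamSam.Core
import Groth.Agent.ParaFX.PairStalk

/-!
# Trivial Picard group of a punctured spectrum from functionals on rank one modules
-/

set_option autoImplicit false
set_option linter.style.haveILetI false
set_option linter.unusedSectionVars false
set_option backward.isDefEq.respectTransparency false
set_option backward.isDefEq.respectTransparency.types false

universe u

open CategoryTheory CategoryTheory.Limits AlgebraicGeometry TopologicalSpace Opposite

namespace Groth.Agent.RamSam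

open Groth.Agent.ParaFX.StalkIso Groth.Agent.ParaFX.PairStalk

/-- A prime of `B` as a point is the prime of the global sections. -/
theorem notMem_primeIdealOf_iff (R : CommRingCat.{u}) (q : (Spec R : Scheme.{u})) (s : Γ(Spec R, ⊤)) :
    s ∉ ((isAffineOpen_top (Spec R)).primeIdealOf ⟨q, trivial⟩).asIdeal ↔
      (Scheme.ΓSpecIso R).hom s ∉ q.asIdeal := by
  rw [← QCoh.mem_basicOpen_iff_notMem (isAffineOpen_top (Spec R)) (x := q) trivial s, basicOpen_eq_of_affine']
  rfl

theorem top_smul_eq (R : CommRingCat.{u}) (E : (Spec R : Scheme.{u}).Modules) (s : Γ(Spec R, ⊤)) (x : Γ(E, ⊤)) :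
    (Scheme.ΓSpecIso R).hom s • x = s • x := by
  rw [Scheme.Modules.smul_Spec_def, Iso.hom_inv_id_apply]
  congr 1

theorem unit_smul_eq (R : CommRingCat.{u}) (E : (Spec R : Scheme.{u}).Modules) (r : R) (x : Γ(E, ⊤)) :
    r • x = (Scheme.ΓSpecIso R).inv r • x := by
  rw [← top_smul_eq R E ((Scheme.ΓSpecIso R).inv r) x, ← CommRingCat.comp_apply, Iso.inv_hom_id,
    CommRingCat.id_apply]

/-- Sections of a quasi-coherent module near a point where the stalk is free of rank one. -/
theorem rankOne_sections (R : CommRingCat.{u}) (E : (Spec R : Scheme.{u}).Modules) (hEq : Coh.IsQCoh E)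
    (q : (Spec R : Scheme.{u})) (s : E.presheaf.stalk q)
    (hs : Function.Bijective fun a : (Spec R : Scheme.{u}).presheaf.stalk q => a • s) :
    ∃ t : Γ(E, ⊤), (∀ x : Γ(E, ⊤), ∃ r ∉ q.asIdeal, ∃ b : R, r • x = b • t) ∧
      ∀ b : R, b • t = 0 → ∃ r ∉ q.asIdeal, r * b = 0 := by
  let X := Spec R
  letI := QCoh.stalkAlg (X := X) (U := ⊤) (x := q) trivial
  letI := QCoh.stalkModule E (show q ∈ (⊤ : X.Opens) from trivial)
  haveI := QCoh.isScalarTower_stalk E (show q ∈ (⊤ : X.Opens) from trivial)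
  haveI := QCoh.isLocalization_stalk' (isAffineOpen_top X) (show q ∈ (⊤ : X.Opens) from trivial)
  haveI := QCoh.isLocalizedModule_germLin hEq (isAffineOpen_top X) (show q ∈ (⊤ : X.Opens) from trivial)
  let S := ((isAffineOpen_top X).primeIdealOf ⟨q, trivial⟩).asIdeal.primeCompl
  let γ := QCoh.germLin E (show q ∈ (⊤ : X.Opens) from trivial)
  obtain ⟨⟨t, s₀⟩, hts⟩ := IsLocalizedModule.surj S γ s
  have hu : IsUnit (algebraMap Γ(X, ⊤) (X.presheaf.stalk q) s₀) := IsLocalization.map_units _ s₀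
  have hts' : algebraMap Γ(X, ⊤) (X.presheaf.stalk q) s₀ • s = γ t := hts
  refine ⟨t, fun x => ?_, fun b hb => ?_⟩
  · obtain ⟨a, ha⟩ := hs.2 (γ x)
    obtain ⟨⟨b, c⟩, hbc⟩ := IsLocalization.surj S (a * hu.unit⁻¹.val)
    have h1 : γ ((c : Γ(X, ⊤)) • x) = γ (b • t) := by
      show _ = _
      rw [map_smul, map_smul, ← IsScalarTower.algebraMap_smul (X.presheaf.stalk q) (c : Γ(X, ⊤)),
        ← IsScalarTower.algebraMap_smul (X.presheaf.stalk q) b, ← ha, ← hts', ← hbc, smul_smul, smul_smul]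
      congr 1
      rw [mul_assoc, mul_comm (algebraMap _ _ (c : Γ(X, ⊤))) (algebraMap _ _ (s₀ : Γ(X, ⊤))), ← mul_assoc,
        mul_assoc a, IsUnit.val_inv_mul, mul_one, mul_comm]
    obtain ⟨d, hd⟩ := IsLocalizedModule.exists_of_eq (S := S) h1
    refine ⟨(Scheme.ΓSpecIso R).hom (d * c : Γ(X, ⊤)), (notMem_primeIdealOf_iff R q _).1 (d * c).2,
      (Scheme.ΓSpecIso R).hom ((d : Γ(X, ⊤)) * b), ?_⟩
    refine (top_smul_eq R E _ x).trans (Eq.trans ?_ (top_smul_eq R E _ t).symm)
    rw [mul_smul, mul_smul]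
    exact hd
  · let b' : Γ(X, ⊤) := (Scheme.ΓSpecIso R).inv b
    have hb' : b' • t = 0 := by
      rw [← top_smul_eq R E b' t, ← CommRingCat.comp_apply, Iso.inv_hom_id, CommRingCat.id_apply]
      exact hb
    have h1 : algebraMap Γ(X, ⊤) (X.presheaf.stalk q) b' *
        algebraMap Γ(X, ⊤) (X.presheaf.stalk q) s₀ = 0 := by
      refine hs.1 ?_
      show (_ * _) • s = (0 : X.presheaf.stalk q) • s
      rw [mul_smul, hts', IsScalarTower.algebraMap_smul, ← map_smul, hb', map_zero, zero_smul]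
    obtain ⟨c, hc⟩ := (IsLocalization.map_eq_zero_iff S (X.presheaf.stalk q) b').1
      ((hu.mul_left_eq_zero).1 h1)
    refine ⟨(Scheme.ΓSpecIso R).hom (c : Γ(X, ⊤)), (notMem_primeIdealOf_iff R q _).1 c.2, ?_⟩
    have := congrArg (Scheme.ΓSpecIso R).hom hc
    rw [map_mul, map_zero, ← CommRingCat.comp_apply (Scheme.ΓSpecIso R).inv, Iso.inv_hom_id,
      CommRingCat.id_apply] at this
    exact this

set_option maxHeartbeats 800000 in
/-- If rank one modules have everywhere nonzero functionals, the punctured spectrum has trivial Picard group. -/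
theorem picTrivial_punctured (B : Type u) [CommRing B] [IsNoetherianRing B] [IsLocalRing B]
    (H : ∀ (M : Type u) [AddCommGroup M] [Module B M] [Module.Finite B M],
      (∀ P : Ideal B, P.IsPrime → P ≠ IsLocalRing.maximalIdeal B → RankOne M P) →
      ∃ ψ : M →ₗ[B] B, ∀ P : Ideal B, P.IsPrime → P ≠ IsLocalRing.maximalIdeal B → ∃ x, ψ x ∉ P) :
    ParaF.PicTrivial (FEt.puncturedSpec B : Scheme.{u}) := by
  intro L hL
  let R := CommRingCat.of B
  haveI : IsNoetherianRing R := inferInstanceAs (IsNoetherianRing B)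
  let X := Spec R
  let U : X.Opens := FEt.puncturedSpec B
  haveI : IsNoetherian X := inferInstance
  have hLc := ParaFX.StalkPair.isCoh_of_invertible hL
  obtain ⟨E, hEq, hEft, ⟨eE⟩⟩ := QCoh.exists_extension_abs (KZ.extStep U) L hLc.1 hLc.2
  haveI : IsIso (Scheme.Modules.fromTildeΓ (R := R) E) :=
    (isQuasicoherent_iff_isIso_fromTildeΓ (R := R) E).1 hEq
  let M := (moduleSpecΓFunctor (R := R)).obj E
  have hEfp : CohB1.IsFP E := QCoh.isCoh_iff_isFP.1 ⟨hEq, hEft⟩
  haveI : Module.FinitePresentation B M := (QCoh.isFP_iff_finitePresentation E hEq).1 hEfp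
  -- stalks off the closed point
  have hgen : ∀ q : X, q ∈ U → ∃ s : E.presheaf.stalk q,
      Function.Bijective fun a : X.presheaf.stalk q => a • s := by
    intro q hq
    obtain ⟨W, hqW, ⟨eW⟩⟩ := hL ⟨q, hq⟩
    let g := W.ι ≫ U.ι
    let ε : (Scheme.Modules.pullback g).obj E ≅ Coh.structureModule (W : Scheme.{u}) :=
      ((Scheme.Modules.pullbackComp W.ι U.ι).app E).symm ≪≫
        (Scheme.Modules.pullback W.ι).mapIso (((Scheme.Modules.restrictFunctorIsoPullback U.ι).app E).symm ≪≫ eE) ≪≫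
        ((Scheme.Modules.restrictFunctorIsoPullback W.ι).app L).symm ≪≫ eW
    exact nonempty_linearEquiv_stalk g ⟨⟨q, hq⟩, hqW⟩ (bij_stalkMap g _) ε
  have hpt : ∀ (P : Ideal B) (hP : P.IsPrime), P ≠ IsLocalRing.maximalIdeal B →
      (⟨P, hP⟩ : PrimeSpectrum B) ∈ (U : Set X) := fun P hP hne he => hne (congrArg PrimeSpectrum.asIdeal he)
  have hM : ∀ P : Ideal B, P.IsPrime → P ≠ IsLocalRing.maximalIdeal B → RankOne M P := fun P hP hne => by
    obtain ⟨s, hs⟩ := hgen (⟨P, hP⟩ : PrimeSpectrum B) (hpt P hP hne)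
    obtain ⟨t, h1, h2⟩ := rankOne_sections R E hEq (⟨P, hP⟩ : PrimeSpectrum B) s hs
    exact ⟨t, h1, h2⟩
  obtain ⟨ψ, hψ⟩ := H M hM
  -- the morphism
  let O := Coh.structureModule X
  let MO := (moduleSpecΓFunctor (R := R)).obj O
  let l : M →ₗ[R] MO :=
    { toFun := fun x => ((Scheme.ΓSpecIso R).inv (ψ x) : Γ(X, ⊤))
      map_add' := fun x y => by rw [map_add, map_add]
      map_smul' := fun r x => by
        rw [map_smul, smul_eq_mul, map_mul]
        exact (unit_smul_eq R O r ((Scheme.ΓSpecIso R).inv (ψ x) : Γ(X, ⊤))).symm }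
  let ψ' : M ⟶ MO := ModuleCat.homEquiv.symm l
  let adj := tilde.adjunction (R := R)
  let φ' : tilde M ⟶ O := (adj.homEquiv M O).symm ψ'
  let ε : tilde M ≅ E := asIso (Scheme.Modules.fromTildeΓ (R := R) E)
  let φ : E ⟶ O := ε.inv ≫ φ'
  have hunit : adj.unit.app M ≫ (moduleSpecΓFunctor (R := R)).map ε.hom = 𝟙 M :=
    adj.right_triangle_components E
  have key : (moduleSpecΓFunctor (R := R)).map φ = ψ' := by
    have h1 : adj.unit.app M ≫ (moduleSpecΓFunctor (R := R)).map φ' = ψ' := by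
      exact (adj.homEquiv_unit (X := M) (Y := O) (f := φ')).symm.trans ((adj.homEquiv M O).apply_symm_apply ψ')
    rw [← Category.id_comp ((moduleSpecΓFunctor (R := R)).map φ), ← hunit, Category.assoc, ← Functor.map_comp,
      Iso.hom_inv_id_assoc]
    exact h1
  have happ : ∀ x : M, φ.app ⊤ x = ((Scheme.ΓSpecIso R).inv (ψ x) : Γ(X, ⊤)) := fun x =>
    ConcreteCategory.congr_hom key x
  have hbij : ∀ q : X, q ∈ U → Function.Bijective ((DerSch.stalkFunctor X q).map φ) := by
    intro q hq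
    obtain ⟨s, hs⟩ := hgen q hq
    let f := ((DerSch.stalkFunctor X q).map φ).hom
    obtain ⟨x, hx⟩ := hψ q.asIdeal q.isPrime fun he => hq (PrimeSpectrum.ext he)
    obtain ⟨w, hw⟩ := (RefX.unitStalk q).surjective (f s)
    obtain ⟨a, ha⟩ := hs.2 (E.presheaf.germ ⊤ q trivial x)
    let v := X.presheaf.germ ⊤ q trivial ((Scheme.ΓSpecIso R).inv (ψ x))
    have hv : IsUnit v := by
      refine (X.mem_basicOpen (U := ⊤) _ q trivial).1 ?_
      rw [basicOpen_eq_of_affine]
      exact hx
    have hfx : f (E.presheaf.germ ⊤ q trivial x) = RefX.unitStalk q v := by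
      refine (ZClosLib.stalkMap_germ φ (U := ⊤) (x := q) trivial x).trans ?_
      rw [happ, show RefX.unitStalk q v = v • RefX.unitStalk q 1 by rw [← map_smul, smul_eq_mul, mul_one]]
      have hone : RefX.unitStalk q 1 = (Coh.structureModule X).presheaf.germ ⊤ q trivial
          ((1 : Γ(X, ⊤)) : Γ(Coh.structureModule X, ⊤)) := one_smul (X.presheaf.stalk q) _
      rw [hone, ← QCoh.germ_smul']
      exact congrArg _ (mul_one _).symm
    have haw : a * w = v := by
      refine (RefX.unitStalk q).injective ?_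
      rw [← hfx, ← ha]
      refine Eq.trans ?_ (f.map_smul a s).symm
      rw [← hw]
      exact (RefX.unitStalk q).map_smul a w
    have hwu : IsUnit w := isUnit_of_mul_isUnit_right (haw ▸ hv)
    refine (Function.Bijective.of_comp_iff _ hs).1 ?_
    have : (⇑f ∘ fun a : X.presheaf.stalk q => a • s) = ⇑(RefX.unitStalk q) ∘ fun a => a * w := by
      funext a
      show f (a • s) = _
      rw [f.map_smul a s, ← hw]
      exact ((RefX.unitStalk q).map_smul a w).symm
    show Function.Bijective (⇑f ∘ fun a : X.presheaf.stalk q => a • s)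
    rw [this]
    exact (RefX.unitStalk q).bijective.comp hwu.unit.mulRight_bijective
  haveI : IsIso ((Scheme.Modules.restrictFunctor U.ι).map φ) := by
    refine (NatIso.isIso_map_iff (Scheme.Modules.restrictFunctorIsoPullback U.ι) φ).2 ?_
    exact isIso_of_bij _ fun w => (bij_pullback_iff U.ι φ w).2 (hbij _ w.2)
  exact ⟨eE.symm ≪≫ asIso ((Scheme.Modules.restrictFunctor U.ι).map φ) ≪≫ Scheme.Modules.restrictUnitIso U.ι⟩

end Groth.Agent.RamSam
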