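import Groth.Agent.RamSam.SmoothRat
import Mathlib.RingTheory.Smooth.StandardSmoothOfFree
import Mathlib.RingTheory.RingHom.StandardSmooth
import Mathlib.RingTheory.Unramified.LocalRing
import Mathlib.RingTheory.AlgebraicIndependent.Transcendental

/-!
# Parafactoriality of smooth algebras at points of positive fibre dimension

The residue extension is made algebraic by moving a transcendence basis, chosen among étale coordinates, into the base.
-/

set_option linter.style.haveILetI false

universe u

open IsLocalRing TensorProduct

namespace Groth.Agent.RamSam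

open Groth.Agent

/-- A polynomial ring is smooth over the polynomial ring in some of its variables. -/
theorem smooth_rename (A : Type u) [CommRing A] {n : ℕ} (J : Finset (Fin n))
    [Algebra (MvPolynomial J A) (MvPolynomial (Fin n) A)]
    [IsScalarTower A (MvPolynomial J A) (MvPolynomial (Fin n) A)]
    (hX : ∀ i : J, algebraMap (MvPolynomial J A) (MvPolynomial (Fin n) A) (MvPolynomial.X i) = MvPolynomial.X i.1) :
    Algebra.Smooth (MvPolynomial J A) (MvPolynomial (Fin n) A) := by
  classical
  constructor
  · refine Algebra.FormallySmooth.of_comp_surjective fun E _ _ I hI g => ?_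
    letI : Algebra A E := ((algebraMap (MvPolynomial J A) E).comp (algebraMap A (MvPolynomial J A))).toAlgebra
    haveI : IsScalarTower A (MvPolynomial J A) E := IsScalarTower.of_algebraMap_eq' rfl
    choose l hl using fun i : Fin n => Ideal.Quotient.mk_surjective (g (MvPolynomial.X i))
    let v : Fin n → E := fun i =>
      if h : i ∈ J then algebraMap (MvPolynomial J A) E (MvPolynomial.X ⟨i, h⟩) else l i
    let F := MvPolynomial.aeval (R := A) v
    have hF : ∀ p, F (algebraMap (MvPolynomial J A) (MvPolynomial (Fin n) A) p) = algebraMap (MvPolynomial J A) E p := by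
      intro p
      have h : (F.toRingHom.comp (algebraMap (MvPolynomial J A) (MvPolynomial (Fin n) A))) =
          algebraMap (MvPolynomial J A) E := by
        refine MvPolynomial.ringHom_ext (fun a => ?_) fun i => ?_
        · show F (algebraMap _ _ (algebraMap A (MvPolynomial J A) a)) = algebraMap _ E (algebraMap A (MvPolynomial J A) a)
          rw [← IsScalarTower.algebraMap_apply, F.commutes, ← IsScalarTower.algebraMap_apply]
        · show F (algebraMap _ _ (MvPolynomial.X i)) = _
          rw [hX, MvPolynomial.aeval_X]
          exact dif_pos i.2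
      exact RingHom.congr_fun h p
    refine ⟨{ F.toRingHom with commutes' := hF }, AlgHom.ext fun q => ?_⟩
    have h : ((Ideal.Quotient.mkₐ A I).comp F) = (g.restrictScalars A) := by
      refine MvPolynomial.algHom_ext fun i => ?_
      show Ideal.Quotient.mk I (F (MvPolynomial.X i)) = g (MvPolynomial.X i)
      rw [MvPolynomial.aeval_X]
      by_cases hi : i ∈ J
      · rw [show v i = _ from dif_pos hi, ← hX ⟨i, hi⟩, g.commutes]
        rfl
      · rw [show v i = l i from dif_neg hi, hl]
    exact AlgHom.congr_fun h q
  · exact Algebra.FinitePresentation.of_restrict_scalars_finitePresentation A _ _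

/-- Elements of an étale algebra are algebraic over the base modulo a prime. -/
theorem exists_poly_of_etale (P S : Type u) [CommRing P] [CommRing S] [Algebra P S] [Algebra.Etale P S]
    (q : Ideal S) [q.IsPrime] (z : S) :
    ∃ G : Polynomial P, G.map (Ideal.Quotient.mk (q.comap (algebraMap P S))) ≠ 0 ∧ Polynomial.aeval z G ∈ q := by
  let p := q.under P
  have hp : p = q.comap (algebraMap P S) := rfl
  haveI : Algebra.IsUnramifiedAt P q := inferInstance
  letI := Localization.AtPrime.algebraOfLiesOver p q
  haveI : Localization.AtPrime.IsLiesOverAlgebra p q := inferInstance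
  haveI : Module.Finite p.ResidueField q.ResidueField := inferInstance
  have hx : IsAlgebraic p.ResidueField (algebraMap S q.ResidueField z) := Algebra.IsAlgebraic.isAlgebraic _
  letI : Algebra (P ⧸ p) q.ResidueField :=
    ((algebraMap p.ResidueField q.ResidueField).comp (algebraMap (P ⧸ p) p.ResidueField)).toAlgebra
  haveI : IsScalarTower (P ⧸ p) p.ResidueField q.ResidueField := IsScalarTower.of_algebraMap_eq' rfl
  haveI : IsScalarTower P (P ⧸ p) q.ResidueField := IsScalarTower.of_algebraMap_eq fun x => by
    show _ = algebraMap p.ResidueField q.ResidueField (algebraMap (P ⧸ p) p.ResidueField (algebraMap P (P ⧸ p) x))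
    rw [← IsScalarTower.algebraMap_apply P (P ⧸ p) p.ResidueField, ← IsScalarTower.algebraMap_apply]
  rw [← IsFractionRing.isAlgebraic_iff (P ⧸ p)] at hx
  obtain ⟨g, hg, hgz⟩ := hx
  choose c hc using fun i => Ideal.Quotient.mk_surjective (g.coeff i)
  let G : Polynomial P := ∑ i ∈ g.support, Polynomial.C (c i) * Polynomial.X ^ i
  have hG : G.map (Ideal.Quotient.mk p) = g := by
    simp only [G, Polynomial.map_sum, Polynomial.map_mul, Polynomial.map_C, Polynomial.map_pow, Polynomial.map_X, hc]
    exact (g.as_sum_support_C_mul_X_pow).symm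
  refine ⟨G, hp ▸ hG ▸ hg, ?_⟩
  have h1 : algebraMap S q.ResidueField (Polynomial.aeval z G) = 0 := by
    rw [← Polynomial.aeval_algebraMap_apply, ← Polynomial.aeval_map_algebraMap (P ⧸ p),
      show G.map (algebraMap P (P ⧸ p)) = g from hG]
    exact hgz
  rwa [← RingHom.mem_ker, Ideal.ker_algebraMap_residueField] at h1

open Classical in
/-- A subfamily of maximal independence, over which everything algebraic over the family is algebraic. -/
theorem exists_algebraic_subfamily (k K : Type u) [Field k] [Field K] [Algebra k K] {n : ℕ} (t : Fin n → K) :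
    ∃ J : Finset (Fin n), Function.Injective (MvPolynomial.aeval (R := k) fun i : J => t i) ∧
      ∀ (G : Polynomial (MvPolynomial (Fin n) k)) (x : K),
        G.map (MvPolynomial.aeval t).toRingHom ≠ 0 → Polynomial.eval₂ (MvPolynomial.aeval t).toRingHom x G = 0 →
        ∃ F : Polynomial (MvPolynomial J k), F ≠ 0 ∧
          Polynomial.eval₂ (MvPolynomial.aeval fun i : J => t i).toRingHom x F = 0 := by
  let s := Finset.univ.filter fun J : Finset (Fin n) => AlgebraicIndepOn k t (J : Set (Fin n))
  have hs : (∅ : Finset (Fin n)) ∈ s := Finset.mem_filter.mpr ⟨Finset.mem_univ _, by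
    rw [Finset.coe_empty, AlgebraicIndepOn, algebraicIndependent_empty_type_iff]
    exact (algebraMap k K).injective⟩
  obtain ⟨J, hJ, hmax⟩ := s.exists_max_image Finset.card ⟨_, hs⟩
  have hind : AlgebraicIndepOn k t (J : Set (Fin n)) := (Finset.mem_filter.mp hJ).2
  refine ⟨J, hind, fun G x hG hx => ?_⟩
  let R₀ := Algebra.adjoin k (t '' (J : Set (Fin n)))
  let S₀ : Subalgebra R₀ K := Subalgebra.algebraicClosure R₀ K
  have ht : ∀ i, t i ∈ S₀ := by
    intro i
    rw [Subalgebra.mem_algebraicClosure]
    by_cases hi : i ∈ J
    · exact isAlgebraic_algebraMap (⟨t i, Algebra.subset_adjoin ⟨i, hi, rfl⟩⟩ : R₀)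
    · by_contra htr
      have h1 : AlgebraicIndepOn k t ((insert i J : Finset (Fin n)) : Set (Fin n)) := by
        rw [Finset.coe_insert, AlgebraicIndepOn.insert_iff (by simpa using hi)]
        exact ⟨hind, htr⟩
      have := hmax _ (Finset.mem_filter.mpr ⟨Finset.mem_univ _, h1⟩)
      rw [Finset.card_insert_of_notMem hi] at this
      omega
  have hmem : ∀ p : MvPolynomial (Fin n) k, MvPolynomial.aeval t p ∈ S₀ := by
    intro p
    induction p using MvPolynomial.induction_on with
    | C a =>
      rw [MvPolynomial.aeval_C, IsScalarTower.algebraMap_apply k R₀ K]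
      exact S₀.algebraMap_mem _
    | add a b ha hb => rw [map_add]; exact add_mem ha hb
    | mul_X a i ha => rw [map_mul, MvPolynomial.aeval_X]; exact mul_mem ha (ht i)
  let π : MvPolynomial (Fin n) k →+* S₀ := (MvPolynomial.aeval t).toRingHom.codRestrict S₀ hmem
  have hπ : (algebraMap S₀ K).comp π = (MvPolynomial.aeval t).toRingHom := RingHom.ext fun _ => rfl
  have hx₀ : IsAlgebraic S₀ x := by
    refine ⟨G.map π, fun h0 => hG ?_, ?_⟩
    · rw [← hπ, ← Polynomial.map_map, h0, Polynomial.map_zero]
    · rw [Polynomial.aeval_def, Polynomial.eval₂_map, hπ, hx]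
  obtain ⟨g, hg, hgx⟩ := hx₀.restrictScalars R₀
  have hsurj : ∀ r : R₀, ∃ p : MvPolynomial J k, MvPolynomial.aeval (fun i : J => t i) p = (r : K) := by
    intro r
    have h2 : (r : K) ∈ Algebra.adjoin k (Set.range fun i : J => t i) := by
      have := r.2
      rw [show Set.range (fun i : J => t i) = t '' (J : Set (Fin n)) from (Set.image_eq_range _ _).symm]
      exact this
    rw [Algebra.adjoin_range_eq_range_aeval] at h2
    exact h2
  choose c hc using hsurj
  let F : Polynomial (MvPolynomial J k) := ∑ i ∈ g.support, Polynomial.C (c (g.coeff i)) * Polynomial.X ^ i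
  have hF : F.map (MvPolynomial.aeval fun i : J => t i).toRingHom = g.map (algebraMap R₀ K) := by
    conv_rhs => rw [g.as_sum_support_C_mul_X_pow]
    simp only [F, Polynomial.map_sum, Polynomial.map_mul, Polynomial.map_C, Polynomial.map_pow, Polynomial.map_X]
    refine Finset.sum_congr rfl fun i _ => ?_
    congr 2
    exact hc _
  refine ⟨F, fun h0 => hg ?_, ?_⟩
  · refine Polynomial.map_injective (algebraMap R₀ K) Subtype.coe_injective ?_
    rw [← hF, h0, Polynomial.map_zero, Polynomial.map_zero]
  · rw [← Polynomial.eval_map, hF, Polynomial.eval_map]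
    exact hgx

/-- Localizing twice at compatible primes. -/
theorem exists_loc_loc_equiv {S₀ S : Type u} [CommRing S₀] [CommRing S] [Algebra S₀ S] (M : Submonoid S₀)
    [IsLocalization M S] (p : Ideal S) [p.IsPrime] (q : Ideal S₀) [q.IsPrime] (h : p.comap (algebraMap S₀ S) = q) :
    ∃ e : Localization.AtPrime p ≃+* Localization.AtPrime q,
      ∀ x : S₀, e (algebraMap S (Localization.AtPrime p) (algebraMap S₀ S x)) = algebraMap S₀ _ x := by
  subst h
  haveI := IsLocalization.isLocalization_isLocalization_atPrime_isLocalization M (Localization.AtPrime p) p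
  exact ⟨(IsLocalization.algEquiv (p.comap (algebraMap S₀ S)).primeCompl (Localization.AtPrime p)
    (Localization.AtPrime (p.comap (algebraMap S₀ S)))).toRingEquiv, fun x => by
      rw [← IsScalarTower.algebraMap_apply]
      exact AlgEquiv.commutes _ x⟩

end Groth.Agent.RamSam
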