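import Groth.Agent.RamSam.PolyGen
import Mathlib.RingTheory.PowerSeries.WeierstrassPreparation
import Mathlib.RingTheory.PowerSeries.Inverse

/-!
# Rank one modules on the punctured spectrum of `A[[T]]`
-/

universe u

open IsLocalRing Polynomial

namespace Groth.Agent.RamSam

/-- Free of rank one at a prime, elementwise. -/
def RankOne {B : Type*} [CommRing B] (M : Type*) [AddCommGroup M] [Module B M] (P : Ideal B) : Prop :=
  ∃ e : M, (∀ x : M, ∃ t ∉ P, ∃ b : B, t • x = b • e) ∧ ∀ b : B, b • e = 0 → ∃ t ∉ P, t * b = 0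

/-- A functional which is onto at a prime where the module is free of rank one. -/
theorem exists_functional_at {B : Type u} [CommRing B] [IsNoetherianRing B] (M : Type u) [AddCommGroup M] [Module B M]
    [Module.Finite B M] (P : Ideal B) [P.IsPrime] (h : RankOne M P) :
    ∃ φ : M →ₗ[B] B, ∃ x, φ x ∉ P := by
  classical
  obtain ⟨e, he, hann⟩ := h
  obtain ⟨s, hs⟩ := (inferInstance : Module.Finite B M).fg_top
  choose t ht b hb using he
  let T := ∏ x ∈ s, t x
  have hT : T ∉ P := fun h => by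
    obtain ⟨x, -, hx⟩ := (Ideal.IsPrime.prod_mem_iff).mp h
    exact ht x hx
  have hTall : ∀ x : M, ∃ b : B, T • x = b • e := by
    intro x
    have hx : x ∈ Submodule.span B (s : Set M) := hs.symm ▸ Submodule.mem_top
    induction hx using Submodule.span_induction with
    | mem y hy =>
      obtain ⟨w, hw⟩ := Finset.dvd_prod_of_mem t hy
      exact ⟨w * b y, by rw [show T = t y * w from hw, mul_comm, mul_smul, hb, mul_smul]⟩
    | zero => exact ⟨0, by rw [smul_zero, zero_smul]⟩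
    | add a b _ _ ha hb' =>
      obtain ⟨a', ha⟩ := ha
      obtain ⟨b', hb'⟩ := hb'
      exact ⟨a' + b', by rw [smul_add, ha, hb', add_smul]⟩
    | smul r a _ ha =>
      obtain ⟨a', ha⟩ := ha
      exact ⟨r * a', by rw [smul_comm, ha, mul_smul]⟩
  choose c hc using hTall
  let An : Ideal B := LinearMap.ker (LinearMap.toSpanSingleton B M e)
  obtain ⟨sA, hsA⟩ := (IsNoetherian.noetherian An : An.FG)
  have hAn : ∀ a : sA, ∃ t ∉ P, t * (a : B) = 0 := fun a => hann a (by
    have : (a : B) ∈ An := hsA ▸ Submodule.subset_span a.2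
    simpa [An] using this)
  choose tA htA htAz using hAn
  let T' := ∏ a, tA a
  have hT' : T' ∉ P := fun h => by
    obtain ⟨x, -, hx⟩ := (Ideal.IsPrime.prod_mem_iff).mp h
    exact htA x hx
  have hkill : ∀ a : B, a • e = 0 → T' * a = 0 := by
    intro a ha
    have ha' : a ∈ Submodule.span B (sA : Set B) := hsA.symm ▸ (show a ∈ An by simpa [An] using ha)
    clear ha
    induction ha' using Submodule.span_induction with
    | mem y hy =>
      obtain ⟨w, hw⟩ := Finset.dvd_prod_of_mem tA (Finset.mem_univ ⟨y, hy⟩)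
      rw [show T' = tA ⟨y, hy⟩ * w from hw, mul_comm (tA _), mul_assoc, htAz, mul_zero]
    | zero => rw [mul_zero]
    | add a b _ _ ha hb' => rw [mul_add, ha, hb', add_zero]
    | smul r a _ ha => rw [smul_eq_mul, mul_left_comm, ha, mul_zero]
  have hwd : ∀ a a' : B, a • e = a' • e → T' * a = T' * a' := fun a a' h =>
    sub_eq_zero.mp (by rw [← mul_sub]; exact hkill _ (by rw [sub_smul, h, sub_self]))
  refine ⟨{ toFun := fun x => T' * c x, map_add' := fun x y => ?_, map_smul' := fun r x => ?_ }, e, fun h => ?_⟩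
  · rw [← mul_add]
    exact hwd _ _ (by rw [← hc, smul_add, hc, hc, add_smul])
  · rw [RingHom.id_apply, smul_eq_mul, mul_left_comm]
    exact hwd _ _ (by rw [← hc, smul_comm, hc, mul_smul])
  · exact (Ideal.IsPrime.mem_or_mem inferInstance
      (show T' * T ∈ P by rw [hwd T (c e) (hc e)]; exact h)).elim hT' hT

variable {A : Type u} [CommRing A] [IsLocalRing A] [IsNoetherianRing A]

set_option maxHeartbeats 800000 in
/-- Ramanujam–Samuel: rank one modules on the punctured spectrum of `A[[T]]` have everywhere nonzero functionals. -/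
theorem exists_functional [IsAdicComplete (maximalIdeal A) A] (hd : (2 : ℕ∞) ≤ LocCoh.depth A A) (M : Type u)
    [AddCommGroup M] [Module (PowerSeries A) M] [Module.Finite (PowerSeries A) M]
    (hM : ∀ P : Ideal (PowerSeries A), P.IsPrime → P ≠ maximalIdeal (PowerSeries A) → RankOne M P) :
    ∃ ψ : M →ₗ[PowerSeries A] PowerSeries A,
      ∀ P : Ideal (PowerSeries A), P.IsPrime → P ≠ maximalIdeal (PowerSeries A) → ∃ x, ψ x ∉ P := by
  classical
  let B := PowerSeries A
  let PB : Ideal B := RingHom.ker (PowerSeries.map (residue A))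
  haveI : PB.IsPrime := RingHom.ker_isPrime _
  have hmemmax : ∀ b : B, b ∈ maximalIdeal B ↔ PowerSeries.constantCoeff b ∈ maximalIdeal A := fun b => by
    rw [mem_maximalIdeal, mem_nonunits_iff, PowerSeries.isUnit_iff_constantCoeff, ← mem_nonunits_iff,
      ← mem_maximalIdeal]
  have hPBne : PB ≠ maximalIdeal B := fun h => by
    have hX : (PowerSeries.X : B) ∈ PB := h ▸ (hmemmax _).mpr (by rw [PowerSeries.constantCoeff_X]; exact zero_mem _)
    rw [RingHom.mem_ker, PowerSeries.map_X] at hX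
    exact PowerSeries.X_ne_zero hX
  obtain ⟨φ, x₀, hx₀⟩ := exists_functional_at M PB (hM PB inferInstance hPBne)
  obtain ⟨g, w, H⟩ := PowerSeries.exists_isWeierstrassFactorization (g := φ x₀) (fun h => hx₀ h)
  have hgm : g.Monic := H.isDistinguishedAt.monic
  obtain ⟨y₀, hy₀⟩ : ∃ y, φ y = (g : B) := ⟨(H.isUnit.unit⁻¹ : Bˣ).val • x₀, by
    rw [map_smul, smul_eq_mul]
    refine (congrArg (_ * ·) H.eq_mul).trans ?_
    rw [mul_left_comm, IsUnit.val_inv_mul, mul_one]⟩
  let J : Ideal B := LinearMap.range φ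
  let I : Ideal A[X] := J.comap Polynomial.coeToPowerSeries.ringHom
  have hgI : g ∈ I := ⟨y₀, hy₀⟩
  let e := H.isDistinguishedAt.algEquivQuotient
  have hsurj : ∀ x : B, ∃ p : A[X], x - (p : B) ∈ Ideal.span {(g : B)} := by
    intro x
    obtain ⟨p, hp⟩ := Ideal.Quotient.mk_surjective (e.symm (Ideal.Quotient.mk _ x))
    refine ⟨p, Ideal.Quotient.eq.mp ?_⟩
    have h1 := congrArg e hp
    rw [e.apply_symm_apply] at h1
    exact h1.symm
  have hinj : ∀ p : A[X], (p : B) ∈ Ideal.span {(g : B)} → g ∣ p := by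
    intro p hp
    rw [← Ideal.mem_span_singleton, ← Ideal.Quotient.eq_zero_iff_mem]
    apply e.injective
    rw [map_zero]
    exact Ideal.Quotient.eq_zero_iff_mem.mpr hp
  have hgreg : ∀ z : B, (g : B) * z = 0 → z = 0 := by
    intro z hz
    refine (PowerSeries.IsWeierstrassDivisorAt.eq_zero_of_mul_eq H.isDistinguishedAt.isWeierstrassDivisorAt'
      (r := 0) ?_ (by rw [hz, Polynomial.coe_zero])).1
    rw [degree_zero]
    exact WithBot.bot_lt_coe _
  -- local principality downstairs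
  have hloc : ∀ Q : Ideal A[X], Q.IsPrime → Q.comap (C : A →+* A[X]) ≠ maximalIdeal A →
      ∃ σ ∈ I, ∀ x ∈ I, ∃ t ∉ Q, σ ∣ t * x := by
    intro Q hQ hQA
    by_cases hgQ : g ∈ Q
    swap
    · exact ⟨g, hgI, fun x _ => ⟨g, hgQ, dvd_mul_right _ _⟩⟩
    haveI := hQ
    let q : B →+* A[X] ⧸ Q := (Ideal.Quotient.factor ((Ideal.span_singleton_le_iff_mem Q).mpr hgQ)).comp
      (e.symm.toAlgHom.toRingHom.comp (Ideal.Quotient.mk _))
    have hq : ∀ p : A[X], q (p : B) = Ideal.Quotient.mk Q p := by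
      intro p
      have : e.symm (Ideal.Quotient.mk _ (p : B)) = Ideal.Quotient.mk _ p :=
        e.symm_apply_eq.mpr rfl
      show Ideal.Quotient.factor ((Ideal.span_singleton_le_iff_mem Q).mpr hgQ)
        (e.symm (Ideal.Quotient.mk _ (p : B))) = _
      rw [this, Ideal.Quotient.factor_mk]
    let P : Ideal B := RingHom.ker q
    haveI : P.IsPrime := RingHom.ker_isPrime _
    have hPQ : ∀ p : A[X], (p : B) ∈ P ↔ p ∈ Q := fun p => by
      rw [RingHom.mem_ker, hq, Ideal.Quotient.eq_zero_iff_mem]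
    have hPg : ∀ {b c : B}, b - c ∈ Ideal.span {(g : B)} → (b ∈ P ↔ c ∈ P) := by
      intro b c h
      have : b - c ∈ P := ((Ideal.span_singleton_le_iff_mem P).mpr ((hPQ g).mpr hgQ)) h
      exact ⟨fun hb => by simpa using P.sub_mem hb this, fun hc => by simpa using P.add_mem this hc⟩
    have hPne : P ≠ maximalIdeal B := fun h => by
      refine hQA (le_antisymm (le_maximalIdeal (Ideal.IsPrime.ne_top inferInstance)) fun a ha => ?_)
      rw [Ideal.mem_comap, ← hPQ, Polynomial.coe_C, h, hmemmax, PowerSeries.constantCoeff_C]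
      exact ha
    obtain ⟨e₀, he₀, -⟩ := hM P inferInstance hPne
    have hJ : ∀ x ∈ J, ∃ t ∉ P, ∃ y, t * x = φ e₀ * y := by
      rintro _ ⟨m, rfl⟩
      obtain ⟨t, ht, b, hb⟩ := he₀ m
      refine ⟨t, ht, b, ?_⟩
      rw [← smul_eq_mul, ← map_smul, hb, map_smul, smul_eq_mul, mul_comm]
    obtain ⟨t, ht, c, htc⟩ := hJ (g : B) ⟨y₀, hy₀⟩
    obtain ⟨s', hs'⟩ := hsurj (φ e₀)
    obtain ⟨b, hb⟩ := Ideal.mem_span_singleton.mp hs'
    have hs'J : (s' : B) ∈ J := by
      have : (s' : B) = φ e₀ - (g : B) * b := by rw [← hb]; ring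
      rw [this]
      exact J.sub_mem ⟨e₀, rfl⟩ (J.mul_mem_right _ ⟨y₀, hy₀⟩)
    obtain ⟨σ, hσI, hσ⟩ : ∃ σ ∈ I, ∀ x ∈ I, ∃ T ∉ P, ∃ Y : B, T * (x : B) = (σ : B) * Y := by
      by_cases hc : c ∈ P
      · refine ⟨s', hs'J, fun x hx => ?_⟩
        obtain ⟨tx, htx, y, hy⟩ := hJ (x : B) hx
        refine ⟨(t - c * b) * tx, fun h => ?_, t * y, ?_⟩
        · exact ((Ideal.IsPrime.mem_or_mem inferInstance h).resolve_right htx) |>
            fun h' => ht (by simpa using P.add_mem h' (P.mul_mem_right b hc))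
        · linear_combination (t - c * b) * hy + b * y * htc + t * y * hb
      · refine ⟨g, hgI, fun x hx => ?_⟩
        obtain ⟨tx, htx, y, hy⟩ := hJ (x : B) hx
        refine ⟨c * tx, fun h => (Ideal.IsPrime.mem_or_mem inferInstance h).elim hc htx, t * y, ?_⟩
        linear_combination c * hy - y * htc
    refine ⟨σ, hσI, ?_⟩
    by_cases hσQ : σ ∈ Q
    swap
    · exact fun x _ => ⟨σ, hσQ, dvd_mul_right _ _⟩
    have hdown : ∀ x ∈ I, ∃ T₁ ∉ Q, ∃ Y₁ z : A[X], T₁ * x = σ * Y₁ + g * z ∧ (x = g → z ∈ Q) := by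
      intro x hx
      obtain ⟨T, hT, Y, hTY⟩ := hσ x hx
      obtain ⟨T₁, hT₁⟩ := hsurj T
      obtain ⟨Y₁, hY₁⟩ := hsurj Y
      obtain ⟨b₁, hb₁⟩ := Ideal.mem_span_singleton.mp hT₁
      obtain ⟨b₂, hb₂⟩ := Ideal.mem_span_singleton.mp hY₁
      obtain ⟨z, hz⟩ := hinj (T₁ * x - σ * Y₁) (by
        rw [Ideal.mem_span_singleton]
        refine ⟨(σ : B) * b₂ - b₁ * (x : B), ?_⟩
        rw [Polynomial.coe_sub, Polynomial.coe_mul, Polynomial.coe_mul]
        linear_combination hTY - (x : B) * hb₁ + (σ : B) * hb₂)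
      refine ⟨T₁, fun h => hT ((hPg hT₁).mpr ((hPQ _).mpr h)), Y₁, z, by linear_combination hz, fun hxg => ?_⟩
      rw [hxg] at hTY
      have hz' := congrArg (fun p : A[X] => (p : B)) hz
      rw [hxg] at hz'
      simp only [Polynomial.coe_sub, Polynomial.coe_mul] at hz'
      have h0 : (g : B) * ((z : B) - ((σ : B) * b₂ - b₁ * g)) = 0 := by
        linear_combination hTY - (g : B) * hb₁ + (σ : B) * hb₂ - hz'
      rw [← hPQ, sub_eq_zero.mp (hgreg _ h0)]
      exact P.sub_mem (P.mul_mem_right _ ((hPQ σ).mpr hσQ)) (P.mul_mem_left _ ((hPQ g).mpr hgQ))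
    intro x hx
    obtain ⟨T₁, hT₁, Y₁, z, he1, hzQ⟩ := hdown g hgI
    obtain ⟨T₂, hT₂, Y₂, z₂, he2, -⟩ := hdown x hx
    refine ⟨(T₁ - z) * T₂, fun h => ?_, (T₁ - z) * Y₂ + z₂ * Y₁, ?_⟩
    · refine (hQ.mem_or_mem h).elim (fun h' => hT₁ ?_) hT₂
      simpa using Q.add_mem h' (hzQ rfl)
    · linear_combination (T₁ - z) * he2 + z₂ * he1
  obtain ⟨h, hhm, hdvd, hu⟩ := exists_global_gen hd I hgm hgI hloc
  have hhreg : ∀ z : B, (h : B) * z = 0 → z = 0 := by
    intro z hz
    obtain ⟨s, hs⟩ := hdvd g hgI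
    refine hgreg z ?_
    rw [hs, Polynomial.coe_mul, mul_right_comm, hz, zero_mul]
  have hJh : ∀ m, ∃ y, φ m = (h : B) * y := by
    intro m
    obtain ⟨p, hp⟩ := hsurj (φ m)
    obtain ⟨b, hb⟩ := Ideal.mem_span_singleton.mp hp
    have hpI : p ∈ I := by
      show (p : B) ∈ J
      have : (p : B) = φ m - (g : B) * b := by rw [← hb]; ring
      rw [this]
      exact J.sub_mem ⟨m, rfl⟩ (J.mul_mem_right _ ⟨y₀, hy₀⟩)
    obtain ⟨s₁, hs₁⟩ := hdvd p hpI
    obtain ⟨s₂, hs₂⟩ := hdvd g hgI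
    refine ⟨(s₁ : B) + (s₂ : B) * b, ?_⟩
    have h1 : (p : B) = (h : B) * (s₁ : B) := by rw [hs₁, Polynomial.coe_mul]
    have h2 : (g : B) = (h : B) * (s₂ : B) := by rw [hs₂, Polynomial.coe_mul]
    linear_combination hb + h1 + b * h2
  choose ψ₀ hψ₀ using hJh
  have hcancel : ∀ a b : B, (h : B) * a = (h : B) * b → a = b := fun a b hab =>
    sub_eq_zero.mp (hhreg _ (by rw [mul_sub, hab, sub_self]))
  refine ⟨{ toFun := ψ₀, map_add' := fun a b => hcancel _ _ (by rw [← hψ₀, map_add, hψ₀, hψ₀, mul_add]),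
            map_smul' := fun r a => hcancel _ _ (by
              rw [← hψ₀, map_smul, hψ₀, RingHom.id_apply, smul_eq_mul, smul_eq_mul, mul_left_comm]) },
    fun P hP hPne => ?_⟩
  suffices hw : ∃ t ∉ P, t * (h : B) ∈ J by
    obtain ⟨t, ht, m, hm⟩ := hw
    refine ⟨m, ?_⟩
    show ψ₀ m ∉ P
    rw [hcancel (ψ₀ m) t (by rw [← hψ₀, hm, mul_comm])]
    exact ht
  haveI := hP
  by_cases hPA : P.comap (PowerSeries.C : A →+* B) = maximalIdeal A
  · refine ⟨φ x₀, fun hfP => ?_, ⟨(h : B) • x₀, by rw [map_smul, smul_eq_mul, mul_comm]⟩⟩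
    have hgP : (g : B) ∈ P := by
      rw [H.eq_mul] at hfP
      exact (Ideal.IsPrime.mem_or_mem inferInstance hfP).resolve_right
        fun hw => Ideal.IsPrime.ne_top inferInstance (P.eq_top_of_isUnit_mem hw H.isUnit)
    have hCP : ∀ a ∈ maximalIdeal A, PowerSeries.C a ∈ P := fun a ha => by
      rw [← Ideal.mem_comap, hPA]; exact ha
    have hXN : (PowerSeries.X : B) ^ g.natDegree ∈ P := by
      have hsum : (g : B) - PowerSeries.X ^ g.natDegree ∈ P := by
        conv => arg 2; arg 1; rw [g.as_sum_range_C_mul_X_pow, Finset.sum_range_succ, hgm.coeff_natDegree, C_1, one_mul]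
        rw [Polynomial.coe_add, Polynomial.coe_pow, Polynomial.coe_X, add_sub_cancel_right,
          ← Polynomial.coeToPowerSeries.ringHom_apply, map_sum]
        refine P.sum_mem fun i hi => ?_
        rw [map_mul, Polynomial.coeToPowerSeries.ringHom_apply, Polynomial.coe_C]
        exact P.mul_mem_right _ (hCP _ (H.isDistinguishedAt.mem (Finset.mem_range.mp hi)))
      simpa using P.sub_mem hgP hsum
    have hX : (PowerSeries.X : B) ∈ P := Ideal.IsPrime.mem_of_pow_mem inferInstance _ hXN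
    refine hPne (le_antisymm (le_maximalIdeal (Ideal.IsPrime.ne_top inferInstance)) fun b hb => ?_)
    rw [PowerSeries.eq_X_mul_shift_add_const b]
    exact P.add_mem (P.mul_mem_right _ hX) (hCP _ ((hmemmax b).mp hb))
  · obtain ⟨u, hu', huI⟩ := hu _ inferInstance hPA
    refine ⟨PowerSeries.C u, hu', ?_⟩
    have : ((C u * h : A[X]) : B) ∈ J := huI
    rwa [Polynomial.coe_mul, Polynomial.coe_C] at this

end Groth.Agent.RamSam
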