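import Groth.Agent.ParaFX.Depth

/-!
# Elements and functionals off the closed point
-/

universe u

open IsLocalRing

namespace Groth.Agent.RamSam

variable {A : Type u} [CommRing A] [IsLocalRing A] [IsNoetherianRing A]

/-- In positive depth an element vanishing off the closed point vanishes. -/
theorem eq_zero_of_locally (hd : (1 : ℕ∞) ≤ LocCoh.depth A A) {z : A}
    (h : ∀ p : Ideal A, p.IsPrime → p ≠ maximalIdeal A → ∃ t ∉ p, t * z = 0) : z = 0 := by
  by_contra hz
  obtain ⟨P, hP, hle⟩ := Alg6.exists_ass_ge (R := A) hz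
  have hPm : P ≠ maximalIdeal A := fun e => Alg6.one_le_depth_iff.mp hd (e ▸ hP)
  obtain ⟨t, ht, htz⟩ := h P (IsAssociatedPrime.isPrime hP) hPm
  exact ht (hle t (by rwa [smul_eq_mul]))

/-- In depth two, a functional on an ideal supported at the closed point is a multiplication. -/
theorem exists_eq_mul_of_functional (hd : (2 : ℕ∞) ≤ LocCoh.depth A A) (K : Ideal A)
    (hK : ∀ p : Ideal A, p.IsPrime → p ≠ maximalIdeal A → ¬ K ≤ p) (c : K →ₗ[A] A) :
    ∃ a : A, ∀ k : K, c k = a * k := by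
  have hd1 : (1 : ℕ∞) ≤ LocCoh.depth A A := le_trans (by decide) hd
  obtain ⟨b, hbK, hb⟩ := (Alg6.exists_isSMulRegular_mem_iff (M := A) K).mpr fun p hp hle => by
    refine hK p (IsAssociatedPrime.isPrime hp) (fun e => Alg6.one_le_depth_iff.mp hd1 (e ▸ hp)) hle
  have hcomm : ∀ k : K, (k : A) * c ⟨b, hbK⟩ = b * c k := by
    intro k
    rw [← smul_eq_mul, ← map_smul, ← smul_eq_mul (a := b), ← map_smul]
    congr 1
    exact Subtype.ext (mul_comm _ _)
  have hpow : ∀ f ∈ maximalIdeal A, ∃ n : ℕ, f ^ n ∈ K := by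
    intro f hf
    have h : f ∈ K.radical := by
      rw [Ideal.radical_eq_sInf, Submodule.mem_sInf]
      intro p hp
      by_cases e : p = maximalIdeal A
      · exact e ▸ hf
      · exact absurd hp.1 (hK p hp.2 e)
    exact h
  obtain ⟨a, ha⟩ := ParaFX.dvd_of_locally hd hb (c := c ⟨b, hbK⟩) fun f hf => by
    obtain ⟨n, hn⟩ := hpow f hf
    exact ⟨n, c ⟨f ^ n, hn⟩, hcomm ⟨f ^ n, hn⟩⟩
  refine ⟨a, fun k => hb ?_⟩
  show b * c k = b * (a * k)
  rw [← hcomm, ha]
  ring

end Groth.Agent.RamSam
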