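import Groth.Agent.LC.AdjDepth
import Groth.Agent.Alg6.LocLoc
import Mathlib.RingTheory.PowerSeries.Inverse

/-!
# The depth of a power series ring
-/

universe u

open IsLocalRing
open scoped Pointwise

namespace Groth.Agent.RamSam

open Groth.Agent

/-- `depth A[[T]] = depth A + 1`. -/
theorem depth_powerSeries (A : Type u) [CommRing A] [IsLocalRing A] [IsNoetherianRing A] :
    LocCoh.depth (PowerSeries A) (PowerSeries A) = LocCoh.depth A A + 1 := by
  let B := PowerSeries A
  let σ : B →+* A := PowerSeries.constantCoeff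
  have hX : (PowerSeries.X : B) ∈ maximalIdeal B := by
    rw [mem_maximalIdeal, mem_nonunits_iff, PowerSeries.isUnit_iff_constantCoeff, PowerSeries.constantCoeff_X]
    exact not_isUnit_zero
  have hreg : IsSMulRegular B (PowerSeries.X : B) := fun a b h => PowerSeries.X_mul_inj.mp h
  have hσ : Function.Surjective σ := fun a => ⟨PowerSeries.C a, PowerSeries.constantCoeff_C a⟩
  letI : Module B A := Module.compHom A σ
  let l : B →ₗ[B] A := { toFun := σ, map_add' := map_add σ, map_smul' := fun r x => map_mul σ r x }
  have hker : (PowerSeries.X : B) • (⊤ : Submodule B B) = LinearMap.ker l := by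
    ext z
    rw [Submodule.mem_smul_pointwise_iff_exists, LinearMap.mem_ker]
    refine ⟨?_, fun h => ?_⟩
    · rintro ⟨w, -, rfl⟩
      show σ (PowerSeries.X * w) = 0
      rw [map_mul, show σ PowerSeries.X = 0 from PowerSeries.constantCoeff_X, zero_mul]
    · obtain ⟨w, hw⟩ := PowerSeries.X_dvd_iff.mpr (show PowerSeries.constantCoeff z = 0 from h)
      exact ⟨w, trivial, hw.symm⟩
  let e : QuotSMulTop (PowerSeries.X : B) B ≃ₗ[B] A :=
    (Submodule.quotEquivOfEq _ _ hker).trans (LinearMap.quotKerEquivOfSurjective l hσ)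
  have h := Alg6.depth_eq_of_semilinear σ hσ e.toAddEquiv fun r x => e.map_smul r x
  rw [← h]
  unfold LocCoh.depth
  exact (LC.idealDepth_quotSMulTop_add_one (M := B) (maximalIdeal B) hX hreg).symm

end Groth.Agent.RamSam
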