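import Groth.Agent.RamSam.PicTriv
import Groth.Agent.RamSam.DepthPS
import Groth.Agent.ParaFX.Ufd

/-!
# Ramanujam–Samuel: `A[[T]]` is parafactorial
-/

universe u

open IsLocalRing

namespace Groth.Agent.RamSam

/-- A power series ring over a complete Noetherian local ring of depth at least two is parafactorial. -/
theorem isParafactorial_powerSeries (A : Type u) [CommRing A] [IsLocalRing A] [IsNoetherianRing A]
    [IsAdicComplete (maximalIdeal A) A] (hd : (2 : ℕ∞) ≤ LocCoh.depth A A) :
    ParaF.IsParafactorialLocalRing (PowerSeries A) := by
  refine (ParaFX.isParafactorialLocalRing_iff _).2 ⟨ParaFX.punctured_bijective _ ?_, picTrivial_punctured _ ?_⟩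
  · rw [depth_powerSeries]
    exact hd.trans le_self_add
  · intro M _ _ _ hM
    exact exists_functional hd M hM

end Groth.Agent.RamSam
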