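import Groth.Agent.RamSam.Depth

/-!
# Locally principal ideals of `A[X]` containing a monic polynomial
-/

universe u

open IsLocalRing Polynomial

namespace Groth.Agent.RamSam

/-- An ideal, locally principal over the closed point, with a monic member, of a polynomial ring over a local ring
is generated by a monic polynomial. -/
theorem exists_monic_span {R : Type u} [CommRing R] [IsLocalRing R] (I : Ideal R[X]) (hfg : I.FG) {g : R[X]}
    (hg : g.Monic) (hgI : g ∈ I)
    (hloc : ∀ N : Ideal R[X], N.IsMaximal → N.comap (C : R →+* R[X]) = maximalIdeal R →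
      ∃ σ ∈ I, ∀ x ∈ I, ∃ t ∉ N, σ ∣ t * x) :
    ∃ h : R[X], h.Monic ∧ I = Ideal.span {h} := by
  classical
  let π : R[X] →+* (ResidueField R)[X] := mapRingHom (residue R)
  have hπ : Function.Surjective π := map_surjective _ residue_surjective
  obtain ⟨h₁, hh₁⟩ := (IsPrincipalIdealRing.principal (I.map π)).principal
  have hgπ : π g ∈ I.map π := Ideal.mem_map_of_mem _ hgI
  have hh₁0 : h₁ ≠ 0 := by
    rintro rfl
    rw [hh₁] at hgπ
    exact (hg.map (residue R)).ne_zero (show π g = 0 by simpa using hgπ)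
  let hb := h₁ * C h₁.leadingCoeff⁻¹
  have hbm : hb.Monic := monic_mul_leadingCoeff_inv hh₁0
  have hspan : I.map π = Ideal.span {hb} := by
    rw [hh₁]
    exact Ideal.span_singleton_eq_span_singleton.mpr
      (associated_mul_unit_right _ _ (isUnit_C.mpr (inv_ne_zero (leadingCoeff_ne_zero.mpr hh₁0)).isUnit))
  set d := hb.natDegree with hd
  -- `I` contains a monic polynomial of degree `d`
  let mk : R[X] →ₐ[R] R[X] ⧸ I := Ideal.Quotient.mkₐ R I
  let E : Submodule R (R[X] ⧸ I) := Submodule.span R ((fun i : ℕ => mk (X ^ i)) '' Set.Iio d)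
  haveI : Module.Finite R (R[X] ⧸ I) := by
    haveI : Module.Finite R (R[X] ⧸ Ideal.span {g}) := hg.finite_adjoinRoot
    exact Module.Finite.of_surjective (Ideal.Quotient.factorₐ R ((Ideal.span_singleton_le_iff_mem I).mpr hgI) :
      (R[X] ⧸ Ideal.span {g}) →ₐ[R] R[X] ⧸ I).toLinearMap
      (Ideal.Quotient.factor_surjective ((Ideal.span_singleton_le_iff_mem I).mpr hgI))
  have hlt : ∀ q : R[X], q.natDegree < d ∨ q = 0 → mk q ∈ E := by
    rintro q (hq | rfl)
    · rw [as_sum_range' q d hq, map_sum]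
      refine Submodule.sum_mem _ fun i hi => ?_
      rw [← smul_X_eq_monomial, map_smul]
      exact Submodule.smul_mem _ _ (Submodule.subset_span ⟨i, Finset.mem_range.mp hi, rfl⟩)
    · rw [map_zero]; exact zero_mem _
  obtain ⟨x₀, hx₀I, hx₀⟩ := (Ideal.mem_map_iff_of_surjective π hπ).mp (hspan.ge (Ideal.mem_span_singleton_self hb))
  obtain ⟨h₀, hh₀, hh₀d, hh₀m⟩ := lifts_and_natDegree_eq_and_monic (p := hb) (f := residue R)
    ((lifts_iff_coeff_lifts _).mpr fun n => residue_surjective _) hbm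
  have htop : ⊤ ≤ E ⊔ maximalIdeal R • (⊤ : Submodule R (R[X] ⧸ I)) := by
    rintro z -
    obtain ⟨q, rfl⟩ := Ideal.Quotient.mk_surjective z
    have hker : ∀ r : R[X], π r = 0 → mk r ∈ maximalIdeal R • (⊤ : Submodule R (R[X] ⧸ I)) := by
      intro r hr
      rw [as_sum_support r, map_sum]
      refine Submodule.sum_mem _ fun i _ => ?_
      rw [← smul_X_eq_monomial, map_smul]
      refine Submodule.smul_mem_smul ?_ Submodule.mem_top
      rw [← residue_eq_zero_iff]
      have := congrArg (fun p => p.coeff i) hr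
      simpa [π] using this
    have hrem : mk h₀ ∈ maximalIdeal R • (⊤ : Submodule R (R[X] ⧸ I)) := by
      have h0 : mk x₀ = 0 := Ideal.Quotient.eq_zero_iff_mem.mpr hx₀I
      have := hker (h₀ - x₀) (by rw [map_sub, hx₀, sub_eq_zero]; exact hh₀)
      rwa [map_sub, h0, sub_zero] at this
    show mk q ∈ _
    rw [← modByMonic_add_div q h₀, map_add, map_mul]
    refine Submodule.add_mem_sup ?_ ?_
    · refine hlt _ ?_
      rcases eq_or_ne h₀ 1 with h1 | h1
      · exact Or.inr (by rw [h1, modByMonic_one])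
      · exact Or.inl (lt_of_lt_of_eq (natDegree_modByMonic_lt q hh₀m h1) hh₀d)
    · refine Submodule.smul_induction_on hrem (fun a ha y _ => ?_) fun a b ha hb' => ?_
      · rw [smul_mul_assoc]; exact Submodule.smul_mem_smul ha Submodule.mem_top
      · rw [add_mul]; exact add_mem ha hb'
  have hE : (⊤ : Submodule R (R[X] ⧸ I)) ≤ E := by
    refine Submodule.le_of_le_smul_of_le_jacobson_bot Module.Finite.fg_top (maximalIdeal_le_jacobson _) ?_
    exact htop
  have hxd : mk (X ^ d) ∈ E := hE Submodule.mem_top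
  obtain ⟨q, hq, hqd⟩ : ∃ q : R[X], mk q = mk (X ^ d) ∧ q.degree < d := by
    suffices ∀ z ∈ E, ∃ q : R[X], mk q = z ∧ q.degree < d from this _ hxd
    intro z hz
    induction hz using Submodule.span_induction with
    | mem z hz =>
      obtain ⟨i, hi, rfl⟩ := hz
      exact ⟨X ^ i, rfl, (degree_X_pow_le i).trans_lt (by exact_mod_cast hi)⟩
    | zero => exact ⟨0, map_zero _, by rw [degree_zero]; exact WithBot.bot_lt_coe d⟩
    | add a b _ _ ha hb' =>
      obtain ⟨qa, rfl, ha⟩ := ha
      obtain ⟨qb, rfl, hb'⟩ := hb'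
      exact ⟨qa + qb, map_add _ _ _, (degree_add_le _ _).trans_lt (max_lt ha hb')⟩
    | smul r a _ ha =>
      obtain ⟨qa, rfl, ha⟩ := ha
      exact ⟨r • qa, map_smul _ _ _, (degree_smul_le _ _).trans_lt ha⟩
  let h : R[X] := X ^ d - q
  have hhm : h.Monic := (monic_X_pow d).sub_of_left (by rwa [degree_X_pow])
  have hhI : h ∈ I := by
    rw [← Ideal.Quotient.eq_zero_iff_mem]
    show mk h = 0
    rw [map_sub, hq, sub_self]
  have hπh : π h = hb := by
    obtain ⟨a, ha⟩ := Ideal.mem_span_singleton'.mp (hspan ▸ Ideal.mem_map_of_mem π hhI)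
    have hm : (π h).Monic := hhm.map _
    have hdeg : (π h).natDegree = d := by
      rw [show π h = h.map (residue R) from rfl, hhm.natDegree_map]
      rcases subsingleton_or_nontrivial R with hR | hR
      · exact absurd hR (not_subsingleton R)
      · refine natDegree_eq_of_degree_eq_some ?_
        rw [degree_sub_eq_left_of_degree_lt (by rwa [degree_X_pow]), degree_X_pow]
    have ha0 : a ≠ 0 := by
      rintro rfl
      exact hm.ne_zero (by rw [← ha, zero_mul])
    have ham : a.Monic := hbm.of_mul_monic_right (ha ▸ hm)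
    have had : a.natDegree = 0 := by
      rw [← ha, natDegree_mul ha0 hbm.ne_zero, ← hd] at hdeg
      omega
    rw [← ha, ham.natDegree_eq_zero.mp had, one_mul]
  refine ⟨h, hhm, le_antisymm (fun x hx => ?_) ((Ideal.span_singleton_le_iff_mem I).mpr hhI)⟩
  rw [Ideal.mem_span_singleton]
  let c : Ideal R[X] :=
    { carrier := {t | h ∣ t * x}
      add_mem' := fun {a b} ha hb' => by show h ∣ (a + b) * x; rw [add_mul]; exact dvd_add ha hb'
      zero_mem' := by show h ∣ 0 * x; simp
      smul_mem' := fun a b hb' => by show h ∣ a * b * x; rw [mul_assoc]; exact dvd_mul_of_dvd_right hb' a }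
  suffices hc : c = ⊤ by
    have : (1 : R[X]) ∈ c := hc ▸ Submodule.mem_top
    exact one_mul x ▸ (show h ∣ 1 * x from this)
  by_contra hc
  obtain ⟨N, hN, hcN⟩ := Ideal.exists_le_maximal c hc
  by_cases hhN : h ∈ N
  swap
  · exact hhN (hcN (show h ∣ h * x from dvd_mul_right _ _))
  haveI := hN
  have hover : N.comap (C : R →+* R[X]) = maximalIdeal R := by
    letI := Ideal.Quotient.field N
    haveI : Module.Finite R (R[X] ⧸ N) := by
      haveI : Module.Finite R (R[X] ⧸ Ideal.span {h}) := hhm.finite_adjoinRoot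
      exact Module.Finite.of_surjective (Ideal.Quotient.factorₐ R ((Ideal.span_singleton_le_iff_mem N).mpr hhN) :
        (R[X] ⧸ Ideal.span {h}) →ₐ[R] R[X] ⧸ N).toLinearMap
        (Ideal.Quotient.factor_surjective ((Ideal.span_singleton_le_iff_mem N).mpr hhN))
    have hmax := Ideal.isMaximal_comap_of_isIntegral_of_isMaximal (R := R) (⊥ : Ideal (R[X] ⧸ N))
      (hI := Ideal.bot_isMaximal)
    have he : (⊥ : Ideal (R[X] ⧸ N)).comap (algebraMap R (R[X] ⧸ N)) = N.comap (C : R →+* R[X]) := by
      ext a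
      rw [Ideal.mem_comap, Ideal.mem_bot, Ideal.mem_comap,
        show algebraMap R (R[X] ⧸ N) a = Ideal.Quotient.mk N (C a) from rfl, Ideal.Quotient.eq_zero_iff_mem]
    rw [he] at hmax
    exact eq_maximalIdeal hmax
  obtain ⟨σ, hσI, hσ⟩ := hloc N hN hover
  obtain ⟨t₁, ht₁, a₁, ha₁⟩ := hσ h hhI
  obtain ⟨t, ht, a, ha⟩ := hσ x hx
  have hkerN : ∀ z : R[X], π z = 0 → z ∈ N := by
    intro z hz
    rw [as_sum_support z]
    refine N.sum_mem fun i _ => ?_
    rw [← C_mul_X_pow_eq_monomial]
    refine N.mul_mem_right _ ?_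
    have : z.coeff i ∈ N.comap (C : R →+* R[X]) := by
      rw [hover, ← residue_eq_zero_iff]
      have := congrArg (fun p => p.coeff i) hz
      simpa [π] using this
    exact this
  have hmem : ∀ z : R[X], z ∈ N ↔ π z ∈ N.map π := fun z => by
    refine ⟨fun hz => Ideal.mem_map_of_mem _ hz, fun hz => ?_⟩
    obtain ⟨y, hy, hyz⟩ := (Ideal.mem_map_iff_of_surjective π hπ).mp hz
    have := hkerN (z - y) (by rw [map_sub, hyz, sub_self])
    simpa using N.add_mem this hy
  obtain ⟨b, hb'⟩ := Ideal.mem_span_singleton'.mp (hspan ▸ Ideal.mem_map_of_mem π hσI)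
  have ha₁N : a₁ ∉ N := by
    intro h1
    refine ht₁ ((hmem t₁).mpr ?_)
    have he := congrArg π ha₁
    rw [map_mul, map_mul, hπh, ← hb'] at he
    have : π t₁ = b * π a₁ := mul_right_cancel₀ hbm.ne_zero (by linear_combination he)
    rw [this]
    exact Ideal.mul_mem_left _ _ ((hmem a₁).mp h1)
  refine (hN.isPrime.mem_or_mem (hcN (show h ∣ t * a₁ * x from ⟨t₁ * a, ?_⟩))).elim ht ha₁N
  linear_combination a₁ * ha - a * ha₁

variable {A : Type u} [CommRing A] [IsLocalRing A] [IsNoetherianRing A]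

/-- The generator at a prime off the closed point. -/
theorem exists_local_gen (I : Ideal A[X]) {g : A[X]} (hg : g.Monic) (hgI : g ∈ I) (p : Ideal A) [p.IsPrime]
    (hloc : ∀ Q : Ideal A[X], Q.IsPrime → Q.comap (C : A →+* A[X]) = p → ∃ σ ∈ I, ∀ x ∈ I, ∃ t ∉ Q, σ ∣ t * x) :
    ∃ h : (Localization.AtPrime p)[X], h.Monic ∧
      I.map (mapRingHom (algebraMap A (Localization.AtPrime p))) = Ideal.span {h} := by
  classical
  let R := Localization.AtPrime p
  let ι := mapRingHom (algebraMap A R)
  haveI : IsNoetherianRing R := IsLocalization.isNoetherianRing p.primeCompl R inferInstance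
  refine exists_monic_span (I.map ι) (IsNoetherian.noetherian _) (hg.map (algebraMap A R))
    (Ideal.mem_map_of_mem ι hgI) fun N hN hover => ?_
  haveI := hN.isPrime
  obtain ⟨σ, hσI, hσ⟩ := hloc (N.comap ι) inferInstance (by
    ext a
    rw [Ideal.mem_comap, Ideal.mem_comap, show ι (C a) = C (algebraMap A R a) from map_C _, ← Ideal.mem_comap,
      hover, IsLocalization.AtPrime.to_map_mem_maximal_iff R p])
  refine ⟨ι σ, Ideal.mem_map_of_mem _ hσI, fun x hx => ?_⟩
  let c : Ideal R[X] := (Ideal.span {ι σ}).colon {x}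
  suffices hc : ¬ c ≤ N by
    obtain ⟨t, ht, htN⟩ := SetLike.not_le_iff_exists.mp hc
    rw [Submodule.mem_colon_singleton, Ideal.mem_span_singleton, smul_eq_mul] at ht
    exact ⟨t, htN, ht⟩
  intro hc
  induction hx using Submodule.span_induction with
  | mem y hy =>
    obtain ⟨z, hz, rfl⟩ := hy
    obtain ⟨t, ht, a, ha⟩ := hσ z hz
    refine ht (hc ?_)
    rw [Submodule.mem_colon_singleton, Ideal.mem_span_singleton, smul_eq_mul]
    exact ⟨ι a, by rw [← map_mul, ← map_mul, ha]⟩
  | zero =>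
    refine hN.ne_top ((Ideal.eq_top_iff_one _).mpr (hc ?_))
    rw [Submodule.mem_colon_singleton, smul_zero]
    exact zero_mem _
  | add a b _ _ ha hb =>
    have key : (Ideal.span {ι σ}).colon {a} * (Ideal.span {ι σ}).colon {b} ≤ (Ideal.span {ι σ}).colon {a + b} := by
      rw [Ideal.mul_le]
      intro r hr s hs
      rw [Submodule.mem_colon_singleton] at hr hs ⊢
      rw [smul_add]
      refine add_mem ?_ ?_
      · rw [mul_comm, mul_smul]; exact Submodule.smul_mem _ _ hr
      · rw [mul_smul]; exact Submodule.smul_mem _ _ hs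
    exact ((Ideal.IsPrime.mul_le inferInstance).mp (key.trans hc)).elim ha hb
  | smul r a _ ha =>
    refine ha (le_trans (fun s hs => ?_) hc)
    rw [Submodule.mem_colon_singleton] at hs ⊢
    rw [smul_comm]
    exact Submodule.smul_mem _ _ hs

attribute [local instance] Polynomial.algebra in
/-- Members of an extended ideal, cleared of denominators. -/
theorem exists_smul_mem_map (I : Ideal A[X]) (p : Ideal A) [p.IsPrime] {z : (Localization.AtPrime p)[X]}
    (hz : z ∈ I.map (mapRingHom (algebraMap A (Localization.AtPrime p)))) :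
    ∃ u ∉ p, ∃ x ∈ I, x.map (algebraMap A (Localization.AtPrime p)) =
      C (algebraMap A (Localization.AtPrime p) u) * z := by
  haveI := Polynomial.isLocalization p.primeCompl (Localization.AtPrime p)
  obtain ⟨⟨⟨x, hx⟩, ⟨s, u, hu, rfl⟩⟩, he⟩ :=
    (IsLocalization.mem_map_algebraMap_iff (Submonoid.map (C : A →+* A[X]) p.primeCompl) _).mp hz
  refine ⟨u, hu, x, hx, ?_⟩
  rw [mul_comm, show C (algebraMap A (Localization.AtPrime p) u) =
    algebraMap A[X] (Localization.AtPrime p)[X] (C u) from (map_C _).symm]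
  exact he.symm

set_option maxHeartbeats 800000 in
/-- A locally principal ideal of `A[X]` with a monic member is, off the closed point, generated by one monic. -/
theorem exists_global_gen (hd : (2 : ℕ∞) ≤ LocCoh.depth A A) (I : Ideal A[X]) {g : A[X]} (hg : g.Monic) (hgI : g ∈ I)
    (hloc : ∀ Q : Ideal A[X], Q.IsPrime → Q.comap (C : A →+* A[X]) ≠ maximalIdeal A →
      ∃ σ ∈ I, ∀ x ∈ I, ∃ t ∉ Q, σ ∣ t * x) :
    ∃ h : A[X], h.Monic ∧ (∀ x ∈ I, h ∣ x) ∧
      ∀ p : Ideal A, p.IsPrime → p ≠ maximalIdeal A → ∃ u ∉ p, C u * h ∈ I := by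
  classical
  have hd1 : (1 : ℕ∞) ≤ LocCoh.depth A A := le_trans (by decide) hd
  obtain ⟨p₁, hp₁, hp₁m⟩ : ∃ p : Ideal A, p.IsPrime ∧ p ≠ maximalIdeal A := by
    by_contra h
    push Not at h
    exact one_ne_zero (eq_zero_of_locally hd1 (z := (1 : A)) fun p hp hpm => absurd (h p hp) hpm)
  have hgen : ∀ q : {p : Ideal A // p.IsPrime ∧ p ≠ maximalIdeal A}, haveI := q.2.1
      ∃ h : (Localization.AtPrime q.1)[X], h.Monic ∧
        I.map (mapRingHom (algebraMap A (Localization.AtPrime q.1))) = Ideal.span {h} := fun q => by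
    haveI := q.2.1
    exact exists_local_gen I hg hgI q.1 fun Q hQ hQp => hloc Q hQ (hQp ▸ q.2.2)
  choose hp hpm hpI using hgen
  have hex : ∃ n, ∃ q, (hp q).natDegree = n := ⟨_, ⟨p₁, hp₁, hp₁m⟩, rfl⟩
  obtain ⟨q₀, hq₀⟩ := Nat.find_spec hex
  set d := Nat.find hex
  have hmin : ∀ q, d ≤ (hp q).natDegree := fun q => Nat.find_min' hex ⟨q, rfl⟩
  -- small members vanish
  have hzero : ∀ x ∈ I, x.degree < d → x = 0 := by
    intro x hx hxd
    ext i
    rw [coeff_zero]
    refine eq_zero_of_locally hd1 fun p hp' hpm' => ?_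
    haveI := hp'
    have hmem := Ideal.mem_map_of_mem (mapRingHom (algebraMap A (Localization.AtPrime p))) hx
    rw [hpI ⟨p, hp', hpm'⟩, Ideal.mem_span_singleton] at hmem
    have h0 : x.map (algebraMap A (Localization.AtPrime p)) = 0 := by
      by_contra hne
      have := (hpm ⟨p, hp', hpm'⟩).not_dvd_of_degree_lt hne ?_
      · exact this hmem
      · refine degree_map_le.trans_lt (hxd.trans_le ?_)
        rw [degree_eq_natDegree (hpm ⟨p, hp', hpm'⟩).ne_zero]
        exact_mod_cast hmin _
    have hi := congrArg (fun f => f.coeff i) h0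
    rw [coeff_map, coeff_zero, IsLocalization.map_eq_zero_iff p.primeCompl] at hi
    obtain ⟨⟨t, ht⟩, hti⟩ := hi
    exact ⟨t, ht, hti⟩
  -- leading coefficients in degree `d`
  let S : Submodule A A[X] := I.restrictScalars A ⊓ degreeLE A d
  let K : Ideal A := S.map (lcoeff A d)
  have hSdeg : ∀ x : A[X], x ∈ S ↔ x ∈ I ∧ x.degree ≤ d := fun x => by simp [S, mem_degreeLE]
  have hdeglt : ∀ x : A[X], x.degree ≤ d → x.coeff d = 0 → x.degree < d := fun x h1 h2 => by
    rw [degree_lt_iff_coeff_zero]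
    intro m hm
    rcases (hm : d ≤ m).lt_or_eq with hlt | rfl
    · exact coeff_eq_zero_of_degree_lt (lt_of_le_of_lt h1 (by exact_mod_cast hlt))
    · exact h2
  have huniq : ∀ x ∈ S, x.coeff d = 0 → x = 0 := fun x hx hx0 =>
    hzero x ((hSdeg x).mp hx).1 (hdeglt x ((hSdeg x).mp hx).2 hx0)
  -- primes where the degree is `d`
  have hK₁ : ∀ q, (hp q).natDegree = d → ¬ K ≤ q.1 := by
    intro q hqd hle
    haveI := q.2.1
    obtain ⟨u, hu, x, hxI, hxu⟩ := exists_smul_mem_map I q.1 (hpI q ▸ Ideal.mem_span_singleton_self _)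
    -- clear the coefficients above `d`
    have hhigh : ∀ i, d < i → ∃ t ∉ q.1, t * x.coeff i = 0 := by
      intro i hi
      have hi' := congrArg (fun f => f.coeff i) hxu
      rw [coeff_map, coeff_C_mul, coeff_eq_zero_of_natDegree_lt (p := hp q) (hqd.symm ▸ hi), mul_zero,
        IsLocalization.map_eq_zero_iff q.1.primeCompl] at hi'
      obtain ⟨⟨t, ht⟩, hti⟩ := hi'
      exact ⟨t, ht, hti⟩
    choose T hT hTx using hhigh
    let t := ∏ i ∈ (Finset.range (x.natDegree + 1)).attach, if h : d < i.1 then T i.1 h else 1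
    have ht : t ∉ q.1 := by
      intro h
      obtain ⟨i, -, hi⟩ := (Ideal.IsPrime.prod_mem_iff).mp h
      split_ifs at hi with h'
      · exact hT i.1 h' hi
      · exact q.2.1.ne_top ((Ideal.eq_top_iff_one _).mpr hi)
    have htx : ∀ i, d < i → t * x.coeff i = 0 := by
      intro i hi
      by_cases hin : i ≤ x.natDegree
      · obtain ⟨w, hw⟩ := Finset.dvd_prod_of_mem (fun i : {i // i ∈ Finset.range (x.natDegree + 1)} =>
          if h : d < i.1 then T i.1 h else 1) (Finset.mem_attach _ ⟨i, Finset.mem_range.mpr (by omega)⟩)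
        rw [show t = _ * w from hw, dif_pos hi, mul_assoc, mul_comm w, ← mul_assoc, hTx i hi, zero_mul]
      · rw [coeff_eq_zero_of_natDegree_lt (by omega), mul_zero]
    have hmem : C t * x ∈ S := by
      rw [hSdeg]
      refine ⟨I.mul_mem_left _ hxI, (degree_le_iff_coeff_zero _ _).mpr fun m hm => ?_⟩
      rw [coeff_C_mul, htx m (by exact_mod_cast hm)]
    have hc := congrArg (fun f => f.coeff d) hxu
    rw [coeff_map, coeff_C_mul, ← hqd, coeff_natDegree, (hpm q).leadingCoeff, mul_one, hqd] at hc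
    have hnot : (C t * x).coeff d ∉ q.1 := by
      intro h
      rw [coeff_C_mul] at h
      refine (Ideal.IsPrime.mem_or_mem inferInstance h).elim ht fun h' => hu ?_
      rw [← IsLocalization.AtPrime.to_map_mem_maximal_iff (Localization.AtPrime q.1) q.1] at h' ⊢
      rwa [← hc]
    exact hnot (hle (Submodule.mem_map_of_mem hmem))
  -- primes where it is larger
  have hK₂ : ∀ q, (hp q).natDegree ≠ d → ∀ k ∈ K, ∃ t ∉ q.1, t * k = 0 := by
    intro q hqd k hk
    haveI := q.2.1
    obtain ⟨x, hx, rfl⟩ := Submodule.mem_map.mp hk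
    have hmem := Ideal.mem_map_of_mem (mapRingHom (algebraMap A (Localization.AtPrime q.1))) ((hSdeg x).mp hx).1
    rw [hpI q, Ideal.mem_span_singleton] at hmem
    have h0 : x.map (algebraMap A (Localization.AtPrime q.1)) = 0 := by
      by_contra hne
      refine (hpm q).not_dvd_of_degree_lt hne ?_ hmem
      refine degree_map_le.trans_lt (((hSdeg x).mp hx).2.trans_lt ?_)
      rw [degree_eq_natDegree (hpm q).ne_zero]
      exact_mod_cast lt_of_le_of_ne (hmin q) (Ne.symm hqd)
    have hi := congrArg (fun f => f.coeff d) h0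
    rw [coeff_map, coeff_zero, IsLocalization.map_eq_zero_iff q.1.primeCompl] at hi
    obtain ⟨⟨t, ht⟩, hti⟩ := hi
    exact ⟨t, ht, hti⟩
  -- connectedness off the closed point
  have hKall : ∀ p : Ideal A, p.IsPrime → p ≠ maximalIdeal A → ¬ K ≤ p := by
    let K' : Ideal A := (⊥ : Ideal A).colon (K : Set A)
    have hK' : ∀ {t}, t ∈ K' ↔ ∀ k ∈ K, t * k = 0 := fun {t} => by
      simp [K', Submodule.mem_annihilator]
    have hdich : ∀ q : {p : Ideal A // p.IsPrime ∧ p ≠ maximalIdeal A}, ¬ K ≤ q.1 ∨ ¬ K' ≤ q.1 := by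
      intro q
      by_cases hqd : (hp q).natDegree = d
      · exact Or.inl (hK₁ q hqd)
      · refine Or.inr fun hle => ?_
        obtain ⟨s, hs⟩ := (IsNoetherian.noetherian K : K.FG)
        choose T hT hTk using hK₂ q hqd
        let t := ∏ i ∈ s.attach, T i.1 (hs ▸ Submodule.subset_span i.2)
        have ht : t ∉ q.1 := by
          intro h
          haveI := q.2.1
          obtain ⟨i, -, hi⟩ := (Ideal.IsPrime.prod_mem_iff).mp h
          exact hT _ _ hi
        refine ht (hle (hK'.mpr fun k hk => ?_))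
        have hk' : k ∈ Submodule.span A (s : Set A) := hs.symm ▸ hk
        induction hk' using Submodule.span_induction with
        | mem y hy =>
          obtain ⟨w, hw⟩ := Finset.dvd_prod_of_mem (fun i : {i // i ∈ s} => T i.1 (hs ▸ Submodule.subset_span i.2))
            (Finset.mem_attach _ ⟨y, hy⟩)
          rw [show t = _ * w from hw, mul_assoc, mul_comm w, ← mul_assoc, hTk, zero_mul]
        | zero => rw [mul_zero]
        | add a b ha' hb' ha hb => rw [mul_add, ha (hs ▸ ha'), hb (hs ▸ hb'), add_zero]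
        | smul r a ha' ha => rw [smul_eq_mul, mul_left_comm, ha (hs ▸ ha'), mul_zero]
    have hinter : ∀ z ∈ K, z ∈ K' → z = 0 := fun z hz hz' => eq_zero_of_locally hd1 fun p hp' hpm' => by
      rcases hdich ⟨p, hp', hpm'⟩ with h | h
      · obtain ⟨t, ht, htp⟩ := SetLike.not_le_iff_exists.mp h
        exact ⟨t, htp, by rw [mul_comm]; exact hK'.mp hz' t ht⟩
      · obtain ⟨t, ht, htp⟩ := SetLike.not_le_iff_exists.mp h
        exact ⟨t, htp, hK'.mp ht z hz⟩
    have hsplit : ∀ z : (K ⊔ K' : Ideal A), ∃ k ∈ K, ∃ k' ∈ K', k + k' = (z : A) := fun z => Submodule.mem_sup.mp z.2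
    choose k₁ hk₁ k₂ hk₂ hsum using hsplit
    have hu : ∀ (z : (K ⊔ K' : Ideal A)) (a b : A), a ∈ K → b ∈ K' → a + b = z → k₁ z = a := by
      intro z a b ha hb hab
      refine sub_eq_zero.mp (hinter _ (sub_mem (hk₁ z) ha) ?_)
      rw [show k₁ z - a = b - k₂ z by linear_combination hsum z - hab]
      exact sub_mem hb (hk₂ z)
    let c : (K ⊔ K' : Ideal A) →ₗ[A] A :=
      { toFun := k₁
        map_add' := fun z w => hu _ _ _ (add_mem (hk₁ z) (hk₁ w)) (add_mem (hk₂ z) (hk₂ w)) (by
          rw [Submodule.coe_add, ← hsum z, ← hsum w]; ring)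
        map_smul' := fun a z => hu _ _ _ (Submodule.smul_mem _ a (hk₁ z)) (Submodule.smul_mem _ a (hk₂ z)) (by
          rw [Submodule.coe_smul, ← hsum z, smul_add]; rfl) }
    obtain ⟨e, he⟩ := exists_eq_mul_of_functional hd (K ⊔ K') (fun p hp' hpm' hle => by
      rcases hdich ⟨p, hp', hpm'⟩ with h | h
      · exact h (le_sup_left.trans hle)
      · exact h (le_sup_right.trans hle)) c
    have he₁ : ∀ z ∈ K, z = e * z := fun z hz =>
      (hu ⟨z, Submodule.mem_sup_left hz⟩ z 0 hz (zero_mem _) (add_zero z)).symm.trans (he _)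
    have he₂ : ∀ z ∈ K', (0 : A) = e * z := fun z hz =>
      (hu ⟨z, Submodule.mem_sup_right hz⟩ 0 z (zero_mem _) hz (zero_add z)).symm.trans (he _)
    intro p hp' hpm' hle
    rcases IsLocalRing.isUnit_or_isUnit_one_sub_self e with h | h
    · rcases hdich ⟨p, hp', hpm'⟩ with h' | h'
      · exact h' hle
      · exact h' fun z hz => by rw [h.mul_right_eq_zero.mp (he₂ z hz).symm]; exact zero_mem _
    · refine hK₁ q₀ hq₀ fun z hz => ?_
      rw [h.mul_right_eq_zero.mp (by linear_combination he₁ z hz : (1 - e) * z = 0)]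
      exact zero_mem _
  -- the generator
  have hex' : ∀ k : K, ∃ x ∈ S, x.coeff d = k := fun k => Submodule.mem_map.mp k.2
  choose X' hX'S hX'c using hex'
  have huq : ∀ (k : K) (x : A[X]), x ∈ S → x.coeff d = k → X' k = x := fun k x hx hxc =>
    sub_eq_zero.mp (huniq _ (sub_mem (hX'S k) hx) (by rw [coeff_sub, hX'c, hxc, sub_self]))
  have hfun : ∀ i : ℕ, ∃ a : A, ∀ k : K, (X' k).coeff i = a * k := fun i =>
    exists_eq_mul_of_functional hd K hKall
      { toFun := fun k => (X' k).coeff i
        map_add' := fun k l => by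
          rw [huq (k + l) (X' k + X' l) (add_mem (hX'S k) (hX'S l)) (by rw [coeff_add, hX'c, hX'c]; rfl),
            coeff_add]
        map_smul' := fun a k => by
          rw [huq (a • k) (a • X' k) (Submodule.smul_mem _ a (hX'S k)) (by rw [coeff_smul, hX'c]; rfl),
            coeff_smul]
          rfl }
  choose a ha using hfun
  let h : A[X] := X ^ d + ∑ i ∈ Finset.range d, C (a i) * X ^ i
  have hsumdeg : (∑ i ∈ Finset.range d, C (a i) * X ^ i).degree < (d : WithBot ℕ) := by
    refine (degree_sum_le _ _).trans_lt ((Finset.sup_lt_iff (WithBot.bot_lt_coe d)).mpr fun i hi => ?_)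
    exact (degree_C_mul_X_pow_le _ _).trans_lt (WithBot.coe_lt_coe.mpr (Finset.mem_range.mp hi))
  have hhm : h.Monic := monic_X_pow_add hsumdeg
  have hhdeg : h.degree ≤ d := (degree_add_le _ _).trans (max_le (degree_X_pow_le d) hsumdeg.le)
  have hkh : ∀ k : K, C (k : A) * h = X' k := by
    intro k
    ext i
    rw [coeff_C_mul]
    rcases lt_trichotomy i d with hi | hi | hi
    · have : h.coeff i = a i := by simp [h, coeff_X_pow, hi.ne, hi]
      rw [this, ha i k, mul_comm]
    · rw [hi]
      have : h.coeff d = 1 := by simp [h, coeff_X_pow]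
      rw [this, mul_one, hX'c]
    · rw [coeff_eq_zero_of_degree_lt (hhdeg.trans_lt (by exact_mod_cast hi)), mul_zero,
        coeff_eq_zero_of_degree_lt (((hSdeg _).mp (hX'S k)).2.trans_lt (by exact_mod_cast hi))]
  have hkI : ∀ k ∈ K, C k * h ∈ I := fun k hk => by
    rw [hkh ⟨k, hk⟩]; exact ((hSdeg _).mp (hX'S _)).1
  refine ⟨h, hhm, fun x hx => ?_, fun p hp' hpm' => ?_⟩
  · rw [← modByMonic_eq_zero_iff_dvd hhm]
    ext i
    rw [coeff_zero]
    refine eq_zero_of_locally hd1 fun p hp' hpm' => ?_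
    obtain ⟨u, huK, hup⟩ := SetLike.not_le_iff_exists.mp (hKall p hp' hpm')
    refine ⟨u, hup, ?_⟩
    have hmem : C u * (x %ₘ h) ∈ I := by
      rw [show C u * (x %ₘ h) = C u * x - C u * h * (x /ₘ h) by
        linear_combination (C u) * modByMonic_add_div x h]
      exact sub_mem (I.mul_mem_left _ hx) (I.mul_mem_right _ (hkI u huK))
    have hdeg : (C u * (x %ₘ h)).degree < d :=
      ((degree_mul_le _ _).trans (add_le_of_nonpos_left degree_C_le)).trans_lt
        ((degree_modByMonic_lt x hhm).trans_le hhdeg)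
    have h0 := hzero _ hmem hdeg
    simpa using congrArg (fun f => f.coeff i) h0
  · obtain ⟨u, huK, hup⟩ := SetLike.not_le_iff_exists.mp (hKall p hp' hpm')
    exact ⟨u, hup, hkI u huK⟩

end Groth.Agent.RamSam
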