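import Groth.Agent.RamSam.Main
import Groth.Agent.ParaFX.PairIff
import Groth.Agent.RegFS6.Flat
import Groth.Agent.PSLib.Basic
import Groth.Agent.CohenLib.PowerSeries
import Groth.Agent.CplFib6.Quot
import Groth.Agent.AvramovLib.Core
import Groth.Agent.FlatLoc6.RegCM
import Mathlib.RingTheory.MvPowerSeries.Equiv

/-!
# Parafactoriality at a rational point over a complete base
-/

set_option linter.style.haveILetI false

universe u

open IsLocalRing

namespace Groth.Agent.RamSam

open Groth.Agent

variable {C : Type u} [CommRing C] [IsLocalRing C] [IsNoetherianRing C]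

/-- A series with coefficients in the maximal ideal lies in the extended ideal. -/
theorem mem_map_of_coeff_mem (n : ℕ) (f : MvPowerSeries (Fin n) C)
    (h : ∀ d, MvPowerSeries.coeff d f ∈ maximalIdeal C) :
    f ∈ (maximalIdeal C).map (algebraMap C (MvPowerSeries (Fin n) C)) := by
  obtain ⟨m, a, ha⟩ := Submodule.fg_iff_exists_fin_generating_family.mp (IsNoetherian.noetherian (maximalIdeal C))
  have hc : ∀ d, ∃ c : Fin m → C, ∑ j, c j • a j = MvPowerSeries.coeff d f := fun d =>
    (Submodule.mem_span_range_iff_exists_fun C).mp (ha.symm ▸ h d)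
  choose c hc using hc
  let g : Fin m → MvPowerSeries (Fin n) C := fun j d => c d j
  have hf : f = ∑ j, algebraMap C (MvPowerSeries (Fin n) C) (a j) * g j := by
    ext d
    rw [map_sum, ← hc d]
    refine Finset.sum_congr rfl fun j _ => ?_
    rw [MvPowerSeries.algebraMap_apply, Algebra.algebraMap_self, RingHom.id_apply, MvPowerSeries.coeff_C_mul,
      smul_eq_mul, mul_comm]
    rfl
  rw [hf]
  refine sum_mem fun j _ => Ideal.mul_mem_right _ _ (Ideal.mem_map_of_mem _ ?_)
  rw [← ha]
  exact Submodule.subset_span ⟨j, rfl⟩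

set_option maxHeartbeats 800000 in
/-- A flat complete algebra with trivial residue extension and regular closed fibre is a power series ring. -/
theorem exists_equiv_mvPowerSeries [IsAdicComplete (maximalIdeal C) C] {T : Type u} [CommRing T] [IsLocalRing T]
    [IsNoetherianRing T] [IsAdicComplete (maximalIdeal T) T] [Algebra C T] [IsLocalHom (algebraMap C T)]
    [Module.Flat C T] (hres : ∀ t : T, ∃ c : C, t - algebraMap C T c ∈ maximalIdeal T) (n : ℕ)
    (hdim : ringKrullDim T = ringKrullDim C + n) (y : Fin n → T) (hy : ∀ i, y i ∈ maximalIdeal T)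
    (hgen : maximalIdeal T ≤ (maximalIdeal C).map (algebraMap C T) ⊔ Ideal.span (Set.range y) ⊔ maximalIdeal T ^ 2) :
    Nonempty (MvPowerSeries (Fin n) C ≃+* T) := by
  let P := MvPowerSeries (Fin n) C
  haveI : IsAdicComplete (maximalIdeal P) P := CohenLib.isAdicComplete_mvPowerSeries
  obtain ⟨ψ, hψ⟩ := PSLib.exists_algHom (R := C) (maximalIdeal T) y hy
  have hC : ∀ c ∈ maximalIdeal C, algebraMap C T c ∈ maximalIdeal T := fun c hc => map_nonunit _ c hc
  have hIJ : (maximalIdeal P).map ψ.toRingHom ≤ maximalIdeal T := by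
    rw [Ideal.map_le_iff_le_comap]
    intro f hf
    rw [CohenLib.mem_maximalIdeal_mvPowerSeries_iff] at hf
    have h1 : f - algebraMap C P (MvPowerSeries.constantCoeff f) ∈ PSLib.vars n C := by
      rw [PSLib.mem_vars_iff, map_sub, MvPowerSeries.algebraMap_apply, Algebra.algebraMap_self, RingHom.id_apply,
        MvPowerSeries.constantCoeff_C, sub_self]
    have h2 : ψ (f - algebraMap C P (MvPowerSeries.constantCoeff f)) ∈ maximalIdeal T := by
      have := PSLib.map_pow_le ψ (I := maximalIdeal T) (fun i => hψ i ▸ hy i) 1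
        (Ideal.mem_map_of_mem ψ.toRingHom (show _ ∈ PSLib.vars n C ^ 1 by rwa [pow_one]))
      rwa [pow_one] at this
    rw [map_sub, ψ.commutes] at h2
    show ψ f ∈ maximalIdeal T
    simpa using add_mem h2 (hC _ hf)
  have hs : Function.Surjective ψ := by
    refine PSLib.surjective_of_first_order ψ.toRingHom (I := maximalIdeal P) (J := maximalIdeal T)
      (IsNoetherian.noetherian _) (maximalIdeal_le_jacobson _) hIJ ?_ fun t => ?_
    · refine hgen.trans (sup_le_sup (sup_le ?_ ?_) le_rfl)
      · rw [Ideal.map_le_iff_le_comap]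
        intro c hc
        rw [Ideal.mem_comap, ← ψ.commutes]
        refine Ideal.mem_map_of_mem _ ?_
        rw [CohenLib.mem_maximalIdeal_mvPowerSeries_iff, MvPowerSeries.algebraMap_apply, Algebra.algebraMap_self,
          RingHom.id_apply, MvPowerSeries.constantCoeff_C]
        exact hc
      · rw [Ideal.span_le]
        rintro _ ⟨i, rfl⟩
        rw [← hψ i]
        refine Ideal.mem_map_of_mem ψ.toRingHom ?_
        rw [CohenLib.mem_maximalIdeal_mvPowerSeries_iff, MvPowerSeries.constantCoeff_X]
        exact zero_mem _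
    · obtain ⟨c, hc⟩ := hres t
      exact ⟨algebraMap C P c, by rwa [show ψ.toRingHom (algebraMap C P c) = algebraMap C T c from ψ.commutes c]⟩
  let mT : Ideal T := (maximalIdeal C).map (algebraMap C T)
  haveI : Nontrivial (T ⧸ mT) := Ideal.Quotient.nontrivial_iff.mpr
    (ne_top_of_le_ne_top (maximalIdeal.isMaximal T).ne_top (Ideal.map_le_iff_le_comap.mpr hC))
  have hdim0 : ringKrullDim (T ⧸ mT) = (n : WithBot ℕ∞) := by
    haveI : IsLocalRing (T ⧸ mT) := IsLocalRing.of_surjective' (Ideal.Quotient.mk mT) Ideal.Quotient.mk_surjective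
    obtain ⟨d, hd⟩ := AvramovLib.exists_nat_dim C
    obtain ⟨e, he⟩ := AvramovLib.exists_nat_dim (T ⧸ mT)
    have h := AvramovLib.dim_eq_add (A := C) (B := T)
    rw [hdim, hd, show ringKrullDim (T ⧸ (maximalIdeal C).map (algebraMap C T)) = _ from he] at h
    rw [he]
    have h' : d + n = d + e := by exact_mod_cast h
    rw [Nat.add_left_cancel h']
  let q : P →+* MvPowerSeries (Fin n) (ResidueField C) := MvPowerSeries.map (residue C)
  have hq : Function.Surjective q := fun g => by
    choose r hr using fun d => residue_surjective (R := C) (MvPowerSeries.coeff d g)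
    let f : P := r
    refine ⟨f, MvPowerSeries.ext fun d => ?_⟩
    rw [MvPowerSeries.coeff_map]
    exact hr d
  have hker : RingHom.ker q ≤ (maximalIdeal C).map (algebraMap C P) := fun f hf =>
    mem_map_of_coeff_mem n f fun d => by
      rw [← residue_eq_zero_iff, ← MvPowerSeries.coeff_map, show MvPowerSeries.map (residue C) f = 0 from hf, map_zero]
  let π : P →+* T ⧸ mT := (Ideal.Quotient.mk mT).comp ψ.toRingHom
  have hmP : (maximalIdeal C).map (algebraMap C P) ≤ RingHom.ker π := by
    rw [Ideal.map_le_iff_le_comap]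
    intro c hc
    rw [Ideal.mem_comap, RingHom.mem_ker]
    show Ideal.Quotient.mk mT (ψ (algebraMap C P c)) = 0
    rw [ψ.commutes, Ideal.Quotient.eq_zero_iff_mem]
    exact Ideal.mem_map_of_mem _ hc
  let π' := RingHom.liftOfSurjective q hq ⟨π, hker.trans hmP⟩
  have hπ' : ∀ f, π' (q f) = π f := fun f => RingHom.liftOfRightInverse_comp_apply _ _ _ _ _
  have hbij := PSLib.bijective_of_surjective (ResidueField C) n π' (fun z => by
    obtain ⟨t, rfl⟩ := Ideal.Quotient.mk_surjective z
    obtain ⟨f, rfl⟩ := hs t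
    exact ⟨q f, hπ' f⟩) hdim0
  have hinj : RingHom.ker ψ = ⊥ := by
    refine Submodule.eq_bot_of_le_smul_of_le_jacobson_bot ((maximalIdeal C).map (algebraMap C P)) (RingHom.ker ψ)
      (IsNoetherian.noetherian _) (fun f hf => ?_) ?_
    · rw [smul_eq_mul]
      refine RegFS6.mem_map_mul_ker_of_flat ψ hs (maximalIdeal C) hf (hker ?_)
      rw [RingHom.mem_ker]
      refine hbij.1 ?_
      rw [hπ', map_zero]
      show Ideal.Quotient.mk mT (ψ f) = 0
      rw [show ψ f = 0 from hf, map_zero]
    · refine le_trans (Ideal.map_le_iff_le_comap.mpr fun c hc => ?_) (maximalIdeal_le_jacobson _)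
      rw [Ideal.mem_comap, CohenLib.mem_maximalIdeal_mvPowerSeries_iff, MvPowerSeries.algebraMap_apply,
        Algebra.algebraMap_self, RingHom.id_apply, MvPowerSeries.constantCoeff_C]
      exact hc
  exact ⟨RingEquiv.ofBijective ψ.toRingHom ⟨(RingHom.injective_iff_ker_eq_bot ψ.toRingHom).mpr hinj, hs⟩⟩

/-- Depth transports along ring isomorphisms. -/
theorem depth_of_ringEquiv {R S : Type u} [CommRing R] [CommRing S] [IsLocalRing R] [IsLocalRing S] (e : R ≃+* S) :
    LocCoh.depth R R = LocCoh.depth S S :=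
  Alg6.depth_eq_of_semilinear e.toRingHom e.surjective e.toAddEquiv fun r x => map_mul e r x

/-- `depth A[[T_1, …, T_n]] = depth A + n`. -/
theorem depth_mvPowerSeries (C : Type u) [CommRing C] [IsLocalRing C] [IsNoetherianRing C] (n : ℕ) :
    LocCoh.depth (MvPowerSeries (Fin n) C) (MvPowerSeries (Fin n) C) = LocCoh.depth C C + n := by
  induction n with
  | zero => rw [depth_of_ringEquiv (MvPowerSeries.isEmptyEquiv (Fin 0) C).toRingEquiv, Nat.cast_zero, add_zero]
  | succ n ih =>
    rw [depth_of_ringEquiv (MvPowerSeries.finSuccEquiv C n).toRingEquiv, depth_powerSeries, ih, Nat.cast_add,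
      Nat.cast_one, add_assoc]

/-- Power series in at least one variable over a complete local ring are parafactorial in depth three. -/
theorem isParafactorial_mvPowerSeries (C : Type u) [CommRing C] [IsLocalRing C] [IsNoetherianRing C]
    [IsAdicComplete (maximalIdeal C) C] (n : ℕ) (hn : 1 ≤ n) (h : (3 : ℕ∞) ≤ LocCoh.depth C C + n) :
    ParaF.IsParafactorialLocalRing (MvPowerSeries (Fin n) C) := by
  obtain ⟨m, rfl⟩ : ∃ m, n = m + 1 := ⟨n - 1, by omega⟩
  haveI : IsAdicComplete (maximalIdeal (MvPowerSeries (Fin m) C)) (MvPowerSeries (Fin m) C) :=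
    CohenLib.isAdicComplete_mvPowerSeries
  refine ParaFX.PairIff.of_ringEquiv (MvPowerSeries.finSuccEquiv C m).toRingEquiv
    (isParafactorial_powerSeries _ ?_)
  rw [depth_mvPowerSeries]
  rw [Nat.cast_add, Nat.cast_one, ← add_assoc, show (3 : ℕ∞) = 2 + 1 from rfl] at h
  exact (ENat.add_le_add_iff_right ENat.one_ne_top).mp h

/-- Parafactoriality at a rational point over a complete base. -/
theorem isParafactorial_of_rational [IsAdicComplete (maximalIdeal C) C] {T : Type u} [CommRing T] [IsLocalRing T]
    [IsNoetherianRing T] [IsAdicComplete (maximalIdeal T) T] [Algebra C T] [IsLocalHom (algebraMap C T)]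
    [Module.Flat C T] (hres : ∀ t : T, ∃ c : C, t - algebraMap C T c ∈ maximalIdeal T) (n : ℕ)
    (hdim : ringKrullDim T = ringKrullDim C + n) (y : Fin n → T) (hy : ∀ i, y i ∈ maximalIdeal T)
    (hgen : maximalIdeal T ≤ (maximalIdeal C).map (algebraMap C T) ⊔ Ideal.span (Set.range y) ⊔ maximalIdeal T ^ 2)
    (hn : 1 ≤ n) (h : (3 : ℕ∞) ≤ LocCoh.depth C C + n) : ParaF.IsParafactorialLocalRing T := by
  obtain ⟨e⟩ := exists_equiv_mvPowerSeries hres n hdim y hy hgen
  exact ParaFX.PairIff.of_ringEquiv e.symm (isParafactorial_mvPowerSeries C n hn h)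

end Groth.Agent.RamSam
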