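import Groth.Agent.RamSam.Coord

/-!
# Parafactoriality of smooth algebras at points of positive fibre dimension
-/

set_option linter.style.haveILetI false

universe u

open IsLocalRing TensorProduct

namespace Groth.Agent.RamSam

open Groth.Agent

set_option maxHeartbeats 800000 in
/-- A smooth algebra over a Noetherian local ring is parafactorial at a point `p` over the closed point when the
fibre has dimension `r ≥ 1` there and `depth A + r ≥ 3`. -/
theorem isParafactorial_smooth (A S : Type u) [CommRing A] [IsLocalRing A] [IsNoetherianRing A] [CommRing S]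
    [Algebra A S] [Algebra.Smooth A S] (p : Ideal S) [p.IsPrime]
    [IsLocalHom (algebraMap A (Localization.AtPrime p))] (r : ℕ)
    (hr : ringKrullDim (EGA4.FibRing A (Localization.AtPrime p)) = r) (hr1 : 1 ≤ r)
    (h : (3 : ℕ∞) ≤ LocCoh.depth A A + r) :
    ParaF.IsParafactorialLocalRing (Localization.AtPrime p) := by
  classical
  haveI : Algebra.IsSmoothAt A p := inferInstance
  obtain ⟨f, hf, hstd⟩ := Algebra.IsSmoothAt.exists_notMem_isStandardSmooth A p
  haveI := hstd
  let S₁ := Localization.Away f
  have hdisj : Disjoint (Submonoid.powers f : Set S) (p : Set S) := by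
    rw [Set.disjoint_left]
    rintro _ ⟨i, rfl⟩ hi
    exact hf (‹p.IsPrime›.mem_of_pow_mem i hi)
  let q : Ideal S₁ := p.map (algebraMap S S₁)
  haveI : q.IsPrime := IsLocalization.isPrime_of_isPrime_disjoint (Submonoid.powers f) S₁ p inferInstance hdisj
  have hqp : q.comap (algebraMap S S₁) = p :=
    IsLocalization.under_map_of_isPrime_disjoint (Submonoid.powers f) S₁ inferInstance hdisj
  -- étale coordinates
  obtain ⟨n, g, hg, hget⟩ := RingHom.IsStandardSmooth.exists_etale_mvPolynomial
    (RingHom.isStandardSmooth_algebraMap.mpr hstd : (algebraMap A S₁).IsStandardSmooth)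
  let P := MvPolynomial (Fin n) A
  letI : Algebra P S₁ := g.toAlgebra
  haveI : Algebra.Etale P S₁ := hget
  haveI : IsScalarTower A P S₁ := IsScalarTower.of_algebraMap_eq' hg.symm
  -- residue field
  let K := q.ResidueField
  let ρ : S₁ →+* K := algebraMap S₁ K
  have hρ : RingHom.ker ρ = q := q.ker_algebraMap_residueField
  let ρA : A →+* K := ρ.comp (algebraMap A S₁)
  have hpA : maximalIdeal A ≤ RingHom.ker ρA := fun a ha => by
    show algebraMap A S₁ a ∈ RingHom.ker ρ
    rw [hρ]
    rw [IsScalarTower.algebraMap_apply A S S₁, ← Ideal.mem_comap, hqp,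
      ← IsLocalization.AtPrime.to_map_mem_maximal_iff (Localization.AtPrime p) p, ← IsScalarTower.algebraMap_apply]
    exact map_nonunit _ a ha
  let k := ResidueField A
  letI : Algebra k K := (Ideal.Quotient.lift (maximalIdeal A) ρA fun a ha => hpA ha).toAlgebra
  have hkA : ∀ a, algebraMap k K (residue A a) = ρA a := fun a => rfl
  let t : Fin n → K := fun i => ρ (algebraMap P S₁ (MvPolynomial.X i))
  have ht : ∀ x : P, MvPolynomial.aeval t (MvPolynomial.map (residue A) x) = ρ (algebraMap P S₁ x) := by
    intro x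
    have : (MvPolynomial.aeval t).toRingHom.comp (MvPolynomial.map (residue A)) = ρ.comp (algebraMap P S₁) := by
      refine MvPolynomial.ringHom_ext (fun a => ?_) fun i => ?_
      · show MvPolynomial.aeval t (MvPolynomial.map (residue A) (MvPolynomial.C a)) = ρ (g (MvPolynomial.C a))
        rw [MvPolynomial.map_C, MvPolynomial.aeval_C, hkA, show g (MvPolynomial.C a) = (g.comp MvPolynomial.C) a from rfl,
          hg]
        rfl
      · show MvPolynomial.aeval t (MvPolynomial.map (residue A) (MvPolynomial.X i)) = _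
        rw [MvPolynomial.map_X, MvPolynomial.aeval_X]
        rfl
    exact RingHom.congr_fun this x
  obtain ⟨J, hJinj, hJalg⟩ := exists_algebraic_subfamily k K t
  let R₀ := MvPolynomial J A
  let ι : R₀ →ₐ[A] P := MvPolynomial.rename Subtype.val
  letI : Algebra R₀ P := ι.toRingHom.toAlgebra
  haveI : IsScalarTower A R₀ P := IsScalarTower.of_algebraMap_eq fun a => (ι.commutes a).symm
  haveI : Algebra.Smooth R₀ P := smooth_rename A J fun i => MvPolynomial.rename_X _ _
  letI : Algebra R₀ S₁ := ((algebraMap P S₁).comp ι.toRingHom).toAlgebra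
  haveI : IsScalarTower R₀ P S₁ := IsScalarTower.of_algebraMap_eq' rfl
  haveI : IsScalarTower A R₀ S₁ := IsScalarTower.of_algebraMap_eq fun a => by
    show _ = algebraMap P S₁ (ι (algebraMap A R₀ a))
    rw [ι.commutes, ← IsScalarTower.algebraMap_apply]
  haveI : Algebra.Smooth R₀ S₁ := Algebra.Smooth.comp R₀ P S₁
  have htJ : ∀ x : R₀, MvPolynomial.aeval (fun i : J => t i) (MvPolynomial.map (residue A) x) =
      ρ (algebraMap R₀ S₁ x) := by
    intro x
    show _ = ρ (algebraMap P S₁ (ι x))
    rw [← ht]
    show _ = MvPolynomial.aeval t (MvPolynomial.map (residue A) (MvPolynomial.rename Subtype.val x))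
    rw [MvPolynomial.map_rename, MvPolynomial.aeval_rename]
    rfl
  let P₀ : Ideal R₀ := q.comap (algebraMap R₀ S₁)
  haveI : P₀.IsPrime := Ideal.IsPrime.comap _
  have hP₀mem : ∀ x : R₀, x ∈ P₀ ↔ MvPolynomial.map (residue A) x = 0 := by
    intro x
    rw [Ideal.mem_comap, ← hρ, RingHom.mem_ker, ← htJ]
    refine ⟨fun h0 => hJinj (by rw [map_zero]; exact h0), fun h0 => by rw [h0, map_zero]⟩
  let A' := Localization.AtPrime P₀
  haveI : IsNoetherianRing A' := IsLocalization.isNoetherianRing P₀.primeCompl A' inferInstance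
  haveI : Module.Flat A R₀ := inferInstance
  haveI : Module.Flat A A' := Module.Flat.trans A R₀ A'
  have hP₀ : P₀ = (maximalIdeal A).map (algebraMap A R₀) := by
    ext x
    rw [hP₀mem, ← RingHom.mem_ker, MvPolynomial.ker_map, show RingHom.ker (residue A) = maximalIdeal A from
      Ideal.mk_ker]
    rfl
  have hmA' : (maximalIdeal A).map (algebraMap A A') = maximalIdeal A' := by
    rw [IsScalarTower.algebraMap_eq A R₀ A', ← Ideal.map_map, ← hP₀]
    exact Localization.AtPrime.map_eq_maximalIdeal
  haveI : IsLocalHom (algebraMap A A') := ((local_hom_TFAE _).out 0 2).mpr hmA'.le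
  obtain ⟨hdA', -⟩ := depth_dim_of_fibre_zero A A' (by
    rw [hmA']
    letI : Field (A' ⧸ maximalIdeal A') := Ideal.Quotient.field _
    exact ringKrullDim_eq_zero_of_field _)
  -- the new algebra
  let S' := A' ⊗[R₀] S₁
  letI : Algebra S₁ S' := Algebra.TensorProduct.rightAlgebra
  haveI : IsLocalization (Algebra.algebraMapSubmonoid S₁ P₀.primeCompl) S' :=
    IsLocalization.tensorRight (S := S₁) A' P₀.primeCompl
  have hMq : Disjoint (Algebra.algebraMapSubmonoid S₁ P₀.primeCompl : Set S₁) (q : Set S₁) := by
    rw [Set.disjoint_left]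
    rintro _ ⟨x, hx, rfl⟩ hxq
    exact hx hxq
  let p' : Ideal S' := q.map (algebraMap S₁ S')
  haveI : p'.IsPrime := IsLocalization.isPrime_of_isPrime_disjoint _ S' q inferInstance hMq
  have hp'q : p'.comap (algebraMap S₁ S') = q :=
    IsLocalization.under_map_of_isPrime_disjoint (Algebra.algebraMapSubmonoid S₁ P₀.primeCompl) S' inferInstance hMq
  obtain ⟨e₁, he₁⟩ := exists_loc_loc_equiv (S₀ := S₁) (S := S') (Algebra.algebraMapSubmonoid S₁ P₀.primeCompl) p' q hp'q
  obtain ⟨e₂, he₂⟩ := exists_loc_loc_equiv (Submonoid.powers f) q p hqp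
  let B := Localization.AtPrime p
  let T := Localization.AtPrime p'
  let e : T ≃+* B := e₁.trans e₂
  have hR₀S' : ∀ x : R₀, algebraMap A' S' (algebraMap R₀ A' x) = algebraMap S₁ S' (algebraMap R₀ S₁ x) := fun x => by
    rw [← IsScalarTower.algebraMap_apply R₀ A' S']
    exact (Algebra.TensorProduct.includeRight.commutes x).symm
  have heA : ∀ a : A, e (algebraMap A' T (algebraMap A A' a)) = algebraMap A B a := by
    intro a
    show e₂ (e₁ _) = _
    rw [IsScalarTower.algebraMap_apply A R₀ A', IsScalarTower.algebraMap_apply A' S' T, hR₀S', he₁,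
      ← IsScalarTower.algebraMap_apply A R₀ S₁, IsScalarTower.algebraMap_apply A S S₁, he₂,
      ← IsScalarTower.algebraMap_apply]
  have hmap : (maximalIdeal A').map (algebraMap A' T) = ((maximalIdeal A).map (algebraMap A B)).map e.symm.toRingHom := by
    rw [← hmA', Ideal.map_map, Ideal.map_map]
    congr 1
    refine RingHom.ext fun a => e.injective ?_
    show e _ = e (e.symm (algebraMap A B a))
    rw [RingEquiv.apply_symm_apply]
    exact heA a
  haveI : IsNoetherianRing S' := Algebra.FiniteType.isNoetherianRing A' S'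
  haveI : IsLocalHom (algebraMap A' T) := by
    refine ((local_hom_TFAE _).out 0 2).mpr ?_
    rw [hmap, Ideal.map_le_iff_le_comap]
    intro x hx
    rw [Ideal.mem_comap, mem_maximalIdeal, mem_nonunits_iff]
    intro hu
    have h1 : IsUnit x := by simpa using hu.map e
    exact (mem_maximalIdeal _).1 (map_maximalIdeal_le (algebraMap A B) hx) h1
  refine ParaFX.PairIff.of_ringEquiv e.symm (isParafactorial_smooth_algebraic A' S' p' (fun z => ?_) r ?_ hr1
    (by rwa [hdA']))
  · -- algebraicity of the residue field
    obtain ⟨z₁, u, rfl⟩ := IsLocalization.exists_mk'_eq (Algebra.algebraMapSubmonoid S₁ P₀.primeCompl) z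
    have hu : ρ u.1 ≠ 0 := fun h0 => Set.disjoint_left.mp hMq u.2 (show u.1 ∈ q from hρ ▸ h0)
    -- the value in `K`
    let φ : S' →+* K := IsLocalization.lift (M := Algebra.algebraMapSubmonoid S₁ P₀.primeCompl) (g := ρ) fun y =>
      isUnit_iff_ne_zero.mpr fun h0 => Set.disjoint_left.mp hMq y.2 (show y.1 ∈ q from hρ ▸ h0)
    have hφ : ∀ s : S₁, φ (algebraMap S₁ S' s) = ρ s := fun s => IsLocalization.lift_eq _ s
    have hφker : RingHom.ker φ = p' := by
      rw [← IsLocalization.map_under (Algebra.algebraMapSubmonoid S₁ P₀.primeCompl) S' (RingHom.ker φ)]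
      show Ideal.map _ ((RingHom.ker φ).comap _) = Ideal.map _ q
      congr 1
      ext s
      rw [Ideal.mem_comap, RingHom.mem_ker, hφ, ← RingHom.mem_ker, hρ]
    let x : K := φ (IsLocalization.mk' S' z₁ u)
    -- algebraic over the étale coordinates
    have hxalg : ∃ G : Polynomial (MvPolynomial (Fin n) k),
        G.map (MvPolynomial.aeval t).toRingHom ≠ 0 ∧ Polynomial.eval₂ (MvPolynomial.aeval t).toRingHom x G = 0 := by
      let E := Subalgebra.algebraicClosure (Algebra.adjoin k (Set.range t)) K
      have hs : ∀ s : S₁, ρ s ∈ E := by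
        intro s
        obtain ⟨G, hG, hGs⟩ := exists_poly_of_etale P S₁ q s
        rw [Subalgebra.mem_algebraicClosure]
        have hψ : ∀ y : P, ρ (algebraMap P S₁ y) ∈ Algebra.adjoin k (Set.range t) := fun y => by
          rw [← ht, Algebra.adjoin_range_eq_range_aeval]
          exact ⟨_, rfl⟩
        let ψ : P →+* Algebra.adjoin k (Set.range t) := (ρ.comp (algebraMap P S₁)).codRestrict _ hψ
        have hψ' : (algebraMap (Algebra.adjoin k (Set.range t)) K).comp ψ = ρ.comp (algebraMap P S₁) :=
          RingHom.ext fun _ => rfl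
        refine ⟨G.map ψ, fun h0 => hG ?_, ?_⟩
        · ext i
          rw [Polynomial.coeff_map, Polynomial.coeff_zero, Ideal.Quotient.eq_zero_iff_mem, Ideal.mem_comap, ← hρ,
            RingHom.mem_ker]
          have := congrArg (fun F => ((F.coeff i : Algebra.adjoin k (Set.range t)) : K)) h0
          simpa [ψ] using this
        · rw [Polynomial.aeval_def, Polynomial.eval₂_map, hψ', ← Polynomial.hom_eval₂, ← Polynomial.aeval_def,
            ← RingHom.mem_ker, hρ]
          exact hGs
      have hxE : IsAlgebraic (Algebra.adjoin k (Set.range t)) x := by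
        have h1 : IsAlgebraic (Algebra.adjoin k (Set.range t)) (ρ z₁) := hs z₁
        have h2 : IsAlgebraic (Algebra.adjoin k (Set.range t)) (ρ u.1) := hs u.1
        have hxu : x = ρ z₁ * (ρ u.1)⁻¹ := by
          rw [eq_mul_inv_iff_mul_eq₀ hu, ← hφ, ← map_mul, IsLocalization.mk'_spec, hφ]
        rw [hxu]
        exact h1.mul h2.inv
      obtain ⟨F, hF, hFx⟩ := hxE
      have hsurj : ∀ r : Algebra.adjoin k (Set.range t), ∃ w : MvPolynomial (Fin n) k,
          MvPolynomial.aeval t w = (r : K) := fun r => by
        exact (Algebra.adjoin_range_eq_range_aeval k t).le r.2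
      choose c hc using hsurj
      let G : Polynomial (MvPolynomial (Fin n) k) := ∑ i ∈ F.support, Polynomial.C (c (F.coeff i)) * Polynomial.X ^ i
      have hG : G.map (MvPolynomial.aeval t).toRingHom = F.map (algebraMap _ K) := by
        conv_rhs => rw [F.as_sum_support_C_mul_X_pow]
        simp only [G, Polynomial.map_sum, Polynomial.map_mul, Polynomial.map_C, Polynomial.map_pow, Polynomial.map_X]
        refine Finset.sum_congr rfl fun i _ => ?_
        congr 2
        exact hc _
      refine ⟨G, fun h0 => hF ?_, ?_⟩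
      · refine Polynomial.map_injective (algebraMap _ K) Subtype.coe_injective ?_
        rw [← hG, h0, Polynomial.map_zero]
      · rw [← Polynomial.eval_map, hG, Polynomial.eval_map]
        exact hFx
    obtain ⟨G, hG, hGx⟩ := hxalg
    obtain ⟨F, hF, hFx⟩ := hJalg G x hG hGx
    obtain ⟨F', hF'⟩ := Polynomial.map_surjective (MvPolynomial.map (residue A))
      (MvPolynomial.map_surjective _ residue_surjective) F
    refine ⟨F'.map (algebraMap R₀ A'), fun h0 => hF ?_, ?_⟩
    · rw [← hF']
      ext1 i
      rw [Polynomial.coeff_map, Polynomial.coeff_zero, ← hP₀mem]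
      have h1 := congrArg (fun F => Polynomial.coeff F i) h0
      simp only [Polynomial.coeff_map, Polynomial.coeff_zero, residue_eq_zero_iff,
        IsLocalization.AtPrime.to_map_mem_maximal_iff A' P₀] at h1
      exact h1
    · rw [← hφker, RingHom.mem_ker, Polynomial.aeval_def, Polynomial.eval₂_map, Polynomial.hom_eval₂]
      rw [← hF', Polynomial.eval₂_map] at hFx
      refine Eq.trans ?_ hFx
      congr 1
      refine RingHom.ext fun y => ?_
      show φ (algebraMap A' S' (algebraMap R₀ A' y)) = MvPolynomial.aeval (fun i : J => t i) (MvPolynomial.map (residue A) y)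
      rw [hR₀S', hφ, htJ]
  · rw [← hr]
    exact ringKrullDim_eq_of_ringEquiv (Ideal.quotientEquiv _ _ e (by
      show (maximalIdeal A).map (algebraMap A B) = ((maximalIdeal A').map (algebraMap A' T)).map e.toRingHom
      rw [hmap, Ideal.map_map]
      refine (Ideal.map_id _).symm.trans (congrArg (fun F => Ideal.map F _) ?_)
      exact RingHom.ext fun x => (e.apply_symm_apply x).symm))

end Groth.Agent.RamSam
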