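import Groth.Agent.RamSam.RatPoint
import Groth.Agent.RamSam.Descend
import Groth.Agent.RegFS6.Lift
import Groth.Agent.RegFS6.Fibre
import Groth.Agent.CplFib6.PSRegular
import Groth.Agent.PopescuLib.RegLoc
import Groth.Agent.CplFib6.Setup

/-!
# Parafactoriality of smooth algebras at points with algebraic residue extension
-/

set_option linter.style.haveILetI false

universe u

open IsLocalRing TensorProduct

namespace Groth.Agent.RamSam

open Groth.Agent

/-- The closed fibre of a flat local map as a local ring. -/
theorem isLocalRing_fibre (C R : Type u) [CommRing C] [CommRing R] [IsLocalRing C] [IsLocalRing R] [Algebra C R]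
    [IsLocalHom (algebraMap C R)] : IsLocalRing (R ⧸ (maximalIdeal C).map (algebraMap C R)) :=
  haveI : Nontrivial (R ⧸ (maximalIdeal C).map (algebraMap C R)) := Ideal.Quotient.nontrivial_iff.mpr
    (ne_top_of_le_ne_top (maximalIdeal.isMaximal R).ne_top (map_maximalIdeal_le (algebraMap C R)))
  IsLocalRing.of_surjective' (Ideal.Quotient.mk _) Ideal.Quotient.mk_surjective

/-- Lifts of a regular system of parameters of the closed fibre of a regular local map. -/
theorem exists_fibre_gens (C R : Type u) [CommRing C] [CommRing R] [IsLocalRing C] [IsLocalRing R] [IsNoetherianRing R]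
    [Algebra C R] [IsLocalHom (algebraMap C R)] (hreg : CAlg.IsRegularHom C R) (r : ℕ)
    (hdim : ringKrullDim (R ⧸ (maximalIdeal C).map (algebraMap C R)) = r) :
    ∃ y : Fin r → R, (∀ i, y i ∈ maximalIdeal R) ∧
      maximalIdeal R ≤ (maximalIdeal C).map (algebraMap C R) ⊔ Ideal.span (Set.range y) := by
  classical
  let R₀ := R ⧸ (maximalIdeal C).map (algebraMap C R)
  haveI : IsLocalRing R₀ := isLocalRing_fibre C R
  haveI hloc : IsLocalHom (Ideal.Quotient.mk ((maximalIdeal C).map (algebraMap C R))) :=
    IsLocalHom.of_surjective _ Ideal.Quotient.mk_surjective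
  haveI hR₀ : IsRegularLocalRing R₀ := by
    haveI := FlatLoc6.isRegularRing_of_geometricallyRegular (hreg.2 (maximalIdeal C)).2
    obtain ⟨e⟩ := RegFS6.closedFibre_equiv_quot C R
    haveI : IsRegularRing R₀ := IsRegularRing.of_ringEquiv e
    exact IsRegularLocalRing.of_isRegularRing_of_isLocalRing R₀
  have h1 : ((maximalIdeal R₀).spanFinrank : WithBot ℕ∞) = ringKrullDim R₀ := hR₀.spanFinrank_maximalIdeal
  have hrank : (maximalIdeal R₀).spanFinrank = r := by exact_mod_cast h1.trans hdim
  obtain ⟨t, ht, hts⟩ := Submodule.FG.exists_span_finset_card_eq_spanFinrank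
    (IsNoetherian.noetherian (maximalIdeal R₀))
  rw [hrank] at ht
  have hy₀ : Ideal.span (Set.range fun i => ((t.equivFinOfCardEq ht).symm i : R₀)) = maximalIdeal R₀ := by
    rw [← Function.comp_def, Set.range_comp, Equiv.range_eq_univ, Set.image_univ, Subtype.range_coe]
    exact hts
  choose y hy using fun i => Ideal.Quotient.mk_surjective ((t.equivFinOfCardEq ht).symm i : R₀)
  refine ⟨y, fun i => ?_, fun x hx => ?_⟩
  · by_contra hu
    rw [mem_maximalIdeal, mem_nonunits_iff, not_not] at hu
    have h2 : ((t.equivFinOfCardEq ht).symm i : R₀) ∈ maximalIdeal R₀ := hy₀ ▸ Ideal.subset_span ⟨i, rfl⟩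
    exact (mem_maximalIdeal _).1 h2 (hy i ▸ hu.map _)
  · have h2 : Ideal.Quotient.mk _ x ∈ (Ideal.span (Set.range y)).map (Ideal.Quotient.mk
        ((maximalIdeal C).map (algebraMap C R))) := by
      rw [Ideal.map_span, ← Set.range_comp', funext hy, hy₀]
      exact map_nonunit _ x hx
    rw [← Ideal.mem_comap, Ideal.comap_map_of_surjective' _ Ideal.Quotient.mk_surjective, Ideal.mk_ker, sup_comm] at h2
    exact h2

set_option maxHeartbeats 1600000 in
/-- A smooth algebra is parafactorial at a point of positive fibre dimension with algebraic residue extension. -/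
theorem isParafactorial_smooth_algebraic (A S : Type u) [CommRing A] [IsLocalRing A] [IsNoetherianRing A] [CommRing S]
    [Algebra A S] [Algebra.Smooth A S] (p : Ideal S) [p.IsPrime]
    [IsLocalHom (algebraMap A (Localization.AtPrime p))]
    (halg : ∀ s : S, ∃ f : Polynomial A, f.map (residue A) ≠ 0 ∧ Polynomial.aeval s f ∈ p) (r : ℕ)
    (hr : ringKrullDim (EGA4.FibRing A (Localization.AtPrime p)) = r) (hr1 : 1 ≤ r)
    (h : (3 : ℕ∞) ≤ LocCoh.depth A A + r) :
    ParaF.IsParafactorialLocalRing (Localization.AtPrime p) := by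
  classical
  haveI : Algebra.FiniteType A S := inferInstance
  haveI : IsNoetherianRing S := Algebra.FiniteType.isNoetherianRing A S
  let B := Localization.AtPrime p
  haveI : IsNoetherianRing B := IsLocalization.isNoetherianRing p.primeCompl B inferInstance
  haveI : Module.Flat A B := Module.Flat.trans A S B
  let K := ResidueField B
  haveI : IsAdicComplete (maximalIdeal K) K := by
    rw [IsLocalRing.isField_iff_maximalIdeal_eq.mp (Field.toIsField K)]; infer_instance
  obtain ⟨C, _, _, _, _, _, σ, hC, hflat, hσ, hker, hσa⟩ := RegFS6.exists_flat_complete_lift A K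
  haveI := hC
  haveI := hflat
  have hmC : maximalIdeal C = (maximalIdeal A).map (algebraMap A C) := by
    rw [← hker]
    exact (eq_maximalIdeal (RingHom.ker_isMaximal_of_surjective σ hσ)).symm
  obtain ⟨hdC, hdimC⟩ := depth_dim_of_fibre_zero A C (by
    rw [← hmC]
    letI : Field (C ⧸ maximalIdeal C) := Ideal.Quotient.field _
    exact ringKrullDim_eq_zero_of_field _)
  have hσA : σ.comp (algebraMap A C) = algebraMap A K := RingHom.ext fun a => hσa a
  let σA : C →ₐ[A] K := { σ with commutes' := fun a => RingHom.congr_fun hσA a }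
  let S₂ := C ⊗[A] S
  haveI : Algebra.FiniteType C S₂ := inferInstance
  haveI : IsNoetherianRing S₂ := Algebra.FiniteType.isNoetherianRing C S₂
  let h₂ : S₂ →ₐ[A] K := Algebra.TensorProduct.lift σA (IsScalarTower.toAlgHom A S K) fun _ _ => Commute.all _ _
  have hh₂ : ∀ c s, h₂ (c ⊗ₜ[A] s) = σ c * residue B (algebraMap S B s) := fun c s =>
    Algebra.TensorProduct.lift_tmul _ _ _ c s
  let p₂ : Ideal S₂ := RingHom.ker h₂
  haveI : p₂.IsPrime := RingHom.ker_isPrime _
  letI : Algebra S S₂ := Algebra.TensorProduct.rightAlgebra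
  have hS₂ : ∀ s : S, algebraMap S S₂ s = (1 : C) ⊗ₜ[A] s := fun s => rfl
  have hcomap : p = p₂.comap (algebraMap S S₂) := by
    ext s
    rw [Ideal.mem_comap, RingHom.mem_ker, hS₂, hh₂, map_one, one_mul, residue_eq_zero_iff,
      IsLocalization.AtPrime.to_map_mem_maximal_iff B p]
  let B₂ := Localization.AtPrime p₂
  haveI : IsNoetherianRing B₂ := IsLocalization.isNoetherianRing p₂.primeCompl B₂ inferInstance
  have hp₂C : maximalIdeal C = p₂.comap (algebraMap C S₂) := by
    ext c
    rw [Ideal.mem_comap, RingHom.mem_ker, Algebra.TensorProduct.algebraMap_apply, Algebra.algebraMap_self,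
      RingHom.id_apply, hh₂, map_one, map_one, mul_one, ← RingHom.mem_ker, hker, hmC]
  haveI : IsLocalHom (algebraMap C B₂) := by
    refine ((local_hom_TFAE (algebraMap C B₂)).out 0 2).mpr ?_
    rw [Ideal.map_le_iff_le_comap]
    intro c hc
    rw [Ideal.mem_comap, IsScalarTower.algebraMap_apply C S₂ B₂, IsLocalization.AtPrime.to_map_mem_maximal_iff B₂ p₂,
      ← Ideal.mem_comap, ← hp₂C]
    exact hc
  haveI : Module.Flat C S₂ := inferInstance
  haveI : Module.Flat C B₂ := Module.Flat.trans C S₂ B₂
  -- `B₂` over `B`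
  let φ : B →+* B₂ := Localization.localRingHom p p₂ (algebraMap S S₂) hcomap
  letI : Algebra B B₂ := φ.toAlgebra
  haveI : IsLocalHom (algebraMap B B₂) := Localization.isLocalHom_localRingHom p p₂ _ hcomap
  haveI : IsScalarTower S B B₂ := IsScalarTower.of_algebraMap_eq fun s =>
    (Localization.localRingHom_to_map p p₂ _ hcomap s).symm
  haveI : Module.Flat S S₂ := by
    refine Module.Flat.of_linearEquiv (M := S ⊗[A] C)
      (AddEquiv.toLinearEquiv (TensorProduct.comm A C S).toAddEquiv fun s x => ?_)
    induction x using TensorProduct.induction_on with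
    | zero => rw [smul_zero, map_zero, smul_zero]
    | add a b ha hb => rw [smul_add, map_add, ha, hb, map_add, smul_add]
    | tmul c t =>
      show (TensorProduct.comm A C S) (s • (c ⊗ₜ[A] t)) = s • (t ⊗ₜ[A] c)
      rw [Algebra.smul_def, hS₂, Algebra.TensorProduct.tmul_mul_tmul, one_mul, TensorProduct.comm_tmul,
        TensorProduct.smul_tmul', smul_eq_mul]
  haveI : Module.Flat S B₂ := Module.Flat.trans S S₂ B₂
  haveI : Module.Flat B B₂ := (Module.flat_iff_of_isLocalization B p.primeCompl B₂).2 inferInstance
  have hfib : ringKrullDim (B₂ ⧸ (maximalIdeal B).map (algebraMap B B₂)) = 0 := by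
    let J : Ideal B₂ := (maximalIdeal B).map (algebraMap B B₂)
    haveI : Nontrivial (B₂ ⧸ J) := Ideal.Quotient.nontrivial_iff.mpr
      (ne_top_of_le_ne_top (maximalIdeal.isMaximal B₂).ne_top (map_maximalIdeal_le (algebraMap B B₂)))
    haveI : Ring.KrullDimLE 0 (B₂ ⧸ J) := by
      rw [Ring.krullDimLE_zero_iff]
      intro Q hQ
      haveI := hQ
      let Q' : Ideal B₂ := Q.comap (Ideal.Quotient.mk J)
      suffices hmax : Q'.IsMaximal by
        have := Ideal.map_eq_top_or_isMaximal_of_surjective (Ideal.Quotient.mk J) Ideal.Quotient.mk_surjective hmax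
        rw [Ideal.map_comap_of_surjective _ Ideal.Quotient.mk_surjective] at this
        exact this.resolve_left hQ.ne_top
      let q : Ideal S₂ := Q'.comap (algebraMap S₂ B₂)
      have hJQ : J ≤ Q' := fun x hx => by
        rw [Ideal.mem_comap, Ideal.Quotient.eq_zero_iff_mem.mpr hx]; exact zero_mem _
      have hpq : ∀ s ∈ p, algebraMap S S₂ s ∈ q := fun s hs => by
        rw [Ideal.mem_comap, ← IsScalarTower.algebraMap_apply, IsScalarTower.algebraMap_apply S B B₂]
        exact hJQ (Ideal.mem_map_of_mem _ ((IsLocalization.AtPrime.to_map_mem_maximal_iff B p s).2 hs))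
      have hAq : ∀ a ∈ maximalIdeal A, algebraMap A S₂ a ∈ q := fun a ha => by
        rw [show algebraMap A S₂ a = algebraMap S S₂ (algebraMap A S a) from
          (Algebra.TensorProduct.includeRight.commutes a).symm]
        refine hpq _ ((IsLocalization.AtPrime.to_map_mem_maximal_iff B p _).1 ?_)
        rw [← IsScalarTower.algebraMap_apply]
        exact map_nonunit _ a ha
      have hCq : maximalIdeal C ≤ q.comap (algebraMap C S₂) := by
        rw [hmC, Ideal.map_le_iff_le_comap]
        intro a ha
        rw [Ideal.mem_comap, Ideal.mem_comap, ← IsScalarTower.algebraMap_apply]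
        exact hAq a ha
      haveI : q.IsPrime := inferInstance
      have hCq' : q.comap (algebraMap C S₂) = maximalIdeal C :=
        ((maximalIdeal.isMaximal C).eq_of_le (Ideal.IsPrime.ne_top inferInstance) hCq).symm
      have hint : Algebra.IsIntegral (C ⧸ q.comap (algebraMap C S₂)) (S₂ ⧸ q) := by
        haveI : (q.comap (algebraMap C S₂)).IsMaximal := hCq' ▸ maximalIdeal.isMaximal C
        letI := Ideal.Quotient.field (q.comap (algebraMap C S₂))
        constructor
        intro z
        obtain ⟨z, rfl⟩ := Ideal.Quotient.mk_surjective z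
        induction z using TensorProduct.induction_on with
        | zero => rw [map_zero]; exact isIntegral_zero
        | add a b ha hb => rw [map_add]; exact ha.add hb
        | tmul c s =>
          rw [show c ⊗ₜ[A] s = algebraMap C S₂ c * algebraMap S S₂ s by
            rw [hS₂, Algebra.TensorProduct.algebraMap_apply, Algebra.algebraMap_self, RingHom.id_apply,
              Algebra.TensorProduct.tmul_mul_tmul, mul_one, one_mul], map_mul]
          refine IsIntegral.mul ?_ ?_
          · rw [show Ideal.Quotient.mk q (algebraMap C S₂ c) =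
              algebraMap (C ⧸ q.comap (algebraMap C S₂)) (S₂ ⧸ q) (Ideal.Quotient.mk _ c) from rfl]
            exact isIntegral_algebraMap
          · obtain ⟨f, hf, hfs⟩ := halg s
            let g : Polynomial (C ⧸ q.comap (algebraMap C S₂)) :=
              f.map ((Ideal.Quotient.mk _).comp (algebraMap A C))
            have hg : g ≠ 0 := by
              obtain ⟨i, hi⟩ : ∃ i, residue A (f.coeff i) ≠ 0 := by
                by_contra hh
                push Not at hh
                exact hf (Polynomial.ext fun i => by rw [Polynomial.coeff_map, hh, Polynomial.coeff_zero])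
              intro h0
              have := congrArg (fun P => P.coeff i) h0
              simp only [g, Polynomial.coeff_map, RingHom.comp_apply, Polynomial.coeff_zero,
                Ideal.Quotient.eq_zero_iff_mem, hCq'] at this
              exact hi (residue_eq_zero_iff _ |>.2 ((map_mem_nonunits_iff (algebraMap A C) _).1 this))
            refine (IsAlgebraic.isIntegral ⟨g, hg, ?_⟩)
            rw [Polynomial.aeval_def, Polynomial.eval₂_map]
            rw [show (algebraMap (C ⧸ q.comap (algebraMap C S₂)) (S₂ ⧸ q)).comp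
              ((Ideal.Quotient.mk _).comp (algebraMap A C)) =
                ((Ideal.Quotient.mk q).comp (algebraMap S S₂)).comp (algebraMap A S) from RingHom.ext fun a => by
              show Ideal.Quotient.mk q (algebraMap C S₂ (algebraMap A C a)) =
                Ideal.Quotient.mk q (algebraMap S S₂ (algebraMap A S a))
              rw [← IsScalarTower.algebraMap_apply]
              exact congrArg _ (Algebra.TensorProduct.includeRight.commutes a).symm,
              show Ideal.Quotient.mk q (algebraMap S S₂ s) = ((Ideal.Quotient.mk q).comp (algebraMap S S₂)) s from rfl,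
              ← Polynomial.hom_eval₂, ← Polynomial.aeval_def, RingHom.comp_apply,
              Ideal.Quotient.eq_zero_iff_mem]
            exact hpq _ hfs
      haveI : (q.comap (algebraMap C S₂)).IsMaximal := hCq' ▸ maximalIdeal.isMaximal C
      have hqm : q.IsMaximal := by
        refine Ideal.Quotient.maximal_of_isField q ?_
        exact isField_of_isIntegral_of_isField'
          ((Ideal.Quotient.maximal_ideal_iff_isField_quotient (q.comap (algebraMap C S₂))).1 inferInstance)
      have hqp : q = p₂ := by
        refine hqm.eq_of_le (Ideal.IsPrime.ne_top inferInstance) fun x hx => ?_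
        rw [← IsLocalization.AtPrime.to_map_mem_maximal_iff B₂ p₂]
        exact le_maximalIdeal (Ideal.IsPrime.ne_top inferInstance) (Ideal.mem_comap.1 hx)
      have : Q' = maximalIdeal B₂ := by
        rw [← IsLocalization.map_comap p₂.primeCompl B₂ Q', ← Localization.AtPrime.map_eq_maximalIdeal]
        exact congrArg _ hqp
      exact this ▸ maximalIdeal.isMaximal B₂
    exact le_antisymm ((Ring.krullDimLE_iff).mp inferInstance) ringKrullDim_nonneg_of_nontrivial
  obtain ⟨-, hdim₂⟩ := depth_dim_of_fibre_zero B B₂ hfib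
  -- the closed fibre of `B₂`
  haveI : Algebra.Smooth C S₂ := inferInstance
  have hregC : CAlg.IsRegularHom C B₂ :=
    PopescuLib.isRegularHom_localization_target (B := S₂) p₂.primeCompl (CplFib6.isRegularHom_of_smooth C S₂)
  have hdimB₀ : ringKrullDim (B₂ ⧸ (maximalIdeal C).map (algebraMap C B₂)) = r := by
    obtain ⟨d, hd⟩ := AvramovLib.exists_nat_dim A
    haveI : IsLocalRing (B₂ ⧸ (maximalIdeal C).map (algebraMap C B₂)) := isLocalRing_fibre C B₂
    obtain ⟨e, he⟩ := AvramovLib.exists_nat_dim (B₂ ⧸ (maximalIdeal C).map (algebraMap C B₂))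
    have h1 := AvramovLib.dim_eq_add (A := C) (B := B₂)
    rw [hdim₂, AvramovLib.dim_eq_add (A := A) (B := B), hdimC, hd,
      show ringKrullDim (B ⧸ (maximalIdeal A).map (algebraMap A B)) = _ from hr, he] at h1
    rw [he]
    have h' : d + r = d + e := by exact_mod_cast h1
    rw [Nat.add_left_cancel h']
  obtain ⟨y₁, hym, hygen⟩ := exists_fibre_gens C B₂ hregC r hdimB₀
  -- completion
  haveI := FlatLoc6.isLocalRing_cpl B₂
  haveI := FlatLoc6.isNoetherianRing_cpl B₂
  haveI := CplFib6.isAdicComplete_cpl B₂
  haveI := FlatLoc6.faithfullyFlat_cpl B₂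
  haveI := isLocalHom_cpl B₂
  let T := EGA4.Cpl B₂
  haveI : Module.Flat C T := Module.Flat.trans C B₂ T
  haveI : IsLocalHom (algebraMap C T) := by
    rw [IsScalarTower.algebraMap_eq C B₂ T]
    exact RingHom.isLocalHom_comp _ _
  have hT : maximalIdeal T = (maximalIdeal B₂).map (algebraMap B₂ T) :=
    AdicCompletion.maximalIdeal_eq_map_of_fg (IsNoetherian.noetherian _)
  refine S2865.result B B₂ hfib (isParafactorial_of_cpl B₂ ?_)
  refine isParafactorial_of_rational (C := C) (T := T) (fun t => ?_) r ?_ (fun i => algebraMap B₂ T (y₁ i))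
    (fun i => hT ▸ Ideal.mem_map_of_mem _ (hym i)) ?_ hr1 (by rwa [hdC])
  · obtain ⟨b, hb⟩ := CplFib6.exists_sub_mem B₂ t
    obtain ⟨z, u, rfl⟩ := IsLocalization.exists_mk'_eq p₂.primeCompl b
    have hu : h₂ (u : S₂) ≠ 0 := u.2
    obtain ⟨c, hc⟩ := hσ (h₂ z / h₂ (u : S₂))
    refine ⟨c, ?_⟩
    rw [show t - algebraMap C T c = (t - algebraMap B₂ T (IsLocalization.mk' B₂ z u)) +
      algebraMap B₂ T (IsLocalization.mk' B₂ z u - algebraMap C B₂ c) by
        rw [map_sub, ← IsScalarTower.algebraMap_apply]; ring]
    refine add_mem hb (hT ▸ Ideal.mem_map_of_mem _ ?_)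
    rw [IsScalarTower.algebraMap_apply C S₂ B₂]
    have e : IsLocalization.mk' B₂ z u - algebraMap S₂ B₂ (algebraMap C S₂ c) =
        IsLocalization.mk' B₂ (z - algebraMap C S₂ c * u) u := by
      rw [IsLocalization.eq_mk'_iff_mul_eq, sub_mul, IsLocalization.mk'_spec, map_sub, map_mul]
    rw [e, IsLocalization.AtPrime.mk'_mem_maximal_iff B₂ p₂, RingHom.mem_ker, map_sub, map_mul,
      Algebra.TensorProduct.algebraMap_apply, Algebra.algebraMap_self, RingHom.id_apply, hh₂, map_one, map_one,
      mul_one, hc, div_mul_cancel₀ _ hu, sub_self]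
  · rw [S0547.result B₂, hdim₂, AvramovLib.dim_eq_add (A := A) (B := B), hdimC]
    exact congrArg _ hr
  · refine le_sup_of_le_left ?_
    rw [hT, Set.range_comp', ← Ideal.map_span, IsScalarTower.algebraMap_eq C B₂ T, ← Ideal.map_map, ← Ideal.map_sup]
    exact Ideal.map_mono hygen

end Groth.Agent.RamSam
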